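import Mathlib
import Cfsg.Agent.H371.CoverTwo

/-!
# The action of `G ⧸ K` on a chief factor of `G` at the top of a solvable normal subgroup `K`

The action is given as a homomorphism into the ring of endomorphisms of an additive group `V` of prime exponent `e`;
an element `c` whose norm `∑_{i < m} ρ(c)^i`, `m` the order of `c`, does not vanish gives an element of `G` of order
divisible by `m e`.
-/

set_option autoImplicit false

namespace Cfsg.Agent.H374.R.Rep

open Subgroup Finset Cfsg.Agent.H371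

universe u v

section toEnd
variable {H : Type u} {V : Type v} [Group H] [CommGroup V]

/-- the representation on the additive group -/
def toEnd (θ : H →* MulAut V) : H →* AddMonoid.End (Additive V) where
  toFun h := MonoidHom.toAdditive (θ h).toMonoidHom
  map_one' := by
    ext v
    rw [map_one]; rfl
  map_mul' a b := by
    ext v
    rw [map_mul]; rfl

theorem toEnd_apply (θ : H →* MulAut V) (h : H) (v : V) :
    toEnd θ h (Additive.ofMul v) = Additive.ofMul (θ h v) := rfl

theorem end_sum_apply {A ι : Type*} [AddCommGroup A] (s : Finset ι) (f : ι → AddMonoid.End A) (v : A) :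
    (∑ i ∈ s, f i) v = ∑ i ∈ s, f i v := by
  classical
  induction s using Finset.induction_on with
  | empty => rw [Finset.sum_empty, Finset.sum_empty]; rfl
  | insert a s ha ih =>
    rw [Finset.sum_insert ha, Finset.sum_insert ha, ← ih]; rfl

theorem norm_ne {θ : H →* MulAut V} {c : H} {m : ℕ} (h : (∑ i ∈ range m, toEnd θ c ^ i) ≠ 0) :
    ∃ v : V, ∏ i ∈ range m, θ (c ^ i) v ≠ 1 := by
  by_contra hcon
  push Not at hcon
  apply h
  apply AddMonoidHom.ext
  intro v
  change (∑ i ∈ range m, toEnd θ c ^ i : AddMonoid.End (Additive V)) v = 0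
  rw [end_sum_apply]
  have h1 : ∀ i ∈ range m, (toEnd θ c ^ i : AddMonoid.End (Additive V)) v = Additive.ofMul (θ (c ^ i) v.toMul) := by
    intro i _
    rw [← map_pow]; rfl
  rw [Finset.sum_congr rfl h1, ← ofMul_prod, hcon]
  rfl

end toEnd

section order
variable {G : Type u} [Group G] [Finite G]

/-- elements of order `m e` from the norm -/
theorem exists_orderOf_of_norm (V : Subgroup G) [V.Normal] (hV : IsMulCommutative V) {e : ℕ} (he : e.Prime)
    (hVe : ∀ v ∈ V, v ^ e = 1) (g : G) (v : V)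
    (hv : letI : CommGroup V := { (inferInstance : Group V) with mul_comm := hV.is_comm.comm };
      ∏ i ∈ range (orderOf (g : G ⧸ V)), Frob.quotAct V hV (((g : G ⧸ V)⁻¹) ^ i) v ≠ 1) :
    ∃ y : G, orderOf y = orderOf (g : G ⧸ V) * e := by
  classical
  set m := orderOf (g : G ⧸ V) with hm
  have hmpos : 0 < m := orderOf_pos _
  let θ := Frob.quotAct V hV
  let _ : CommGroup V := { (inferInstance : Group V) with mul_comm := hV.is_comm.comm }
  -- powers of `g * v`
  have hpow : ∀ k : ℕ, (g * (v : G)) ^ k = g ^ k * ((∏ i ∈ range k, θ (((g : G ⧸ V)⁻¹) ^ i) v : V) : G) := by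
    intro k
    induction k with
    | zero => simp
    | succ k ih =>
      rw [pow_succ', ih, Finset.prod_range_succ, Subgroup.coe_mul]
      have h1 : ((θ (((g : G ⧸ V)⁻¹) ^ k) v : V) : G) = (g ^ k)⁻¹ * v * g ^ k := by
        have h2 : ((g : G ⧸ V)⁻¹) ^ k = (((g⁻¹) ^ k : G) : G ⧸ V) := by
          rw [QuotientGroup.mk_pow, QuotientGroup.mk_inv]
        rw [h2]
        change ((Frob.quotAct V hV _ v : V) : G) = _
        rw [Frob.quotAct_mk, inv_pow, inv_inv]
      rw [h1]
      set P := ∏ i ∈ range k, θ (((g : G ⧸ V)⁻¹) ^ i) v with hP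
      have h3 : (P : G) * ((g ^ k)⁻¹ * (v : G) * g ^ k) = ((g ^ k)⁻¹ * (v : G) * g ^ k) * P := by
        have h4 : (g ^ k)⁻¹ * (v : G) * g ^ k ∈ V := by
          have := ‹V.Normal›.conj_mem (v : G) v.2 ((g ^ k)⁻¹)
          rwa [inv_inv] at this
        have := hV.is_comm.comm P ⟨_, h4⟩
        exact congrArg Subtype.val this
      rw [h3, pow_succ']
      group
  have hend : ∀ y : G, (y : G ⧸ V) = (g : G ⧸ V) → y ^ m ≠ 1 → orderOf y = m * e := by
    intro y hy hym
    have h1 : y ^ m ∈ V := by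
      rw [← QuotientGroup.eq_one_iff, QuotientGroup.mk_pow, hy, hm, pow_orderOf_eq_one]
    have h2 : orderOf (y ^ m) = e := by
      have := Fact.mk he
      exact orderOf_eq_prime (hVe _ h1) hym
    have h3 : m ∣ orderOf y := by
      rw [hm, ← hy]
      exact orderOf_map_dvd (QuotientGroup.mk' V) y
    rw [orderOf_pow_of_dvd hmpos.ne' h3] at h2
    rw [← h2, Nat.mul_div_cancel' h3]
  by_cases hg : g ^ m = 1
  · refine ⟨g * v, hend _ ?_ ?_⟩
    · rw [QuotientGroup.mk_mul, (QuotientGroup.eq_one_iff _).2 v.2, mul_one]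
    · rw [hpow, hg, one_mul]
      intro h
      exact hv (Subtype.ext h)
  · exact ⟨g, hend _ rfl hg⟩

/-- **The action on a chief factor.** -/
theorem exists_rep (K : Subgroup G) [K.Normal] (hK : Group.IsSolvable K) (hne : K ≠ ⊥) :
    ∃ (V : Type u) (_ : CommGroup V) (_ : Finite V) (e : ℕ) (θ : G ⧸ K →* MulAut V), Nontrivial V ∧ e.Prime ∧
      e ∣ Nat.card K ∧ (∀ v : V, v ^ e = 1) ∧
      ∀ c : G ⧸ K, (∃ v : V, ∏ i ∈ range (orderOf c), θ (c ^ i) v ≠ 1) → ∃ y : G, orderOf c * e ∣ orderOf y := by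
  classical
  obtain ⟨L, hLn, hLK, hV0, hab, e, he, heK, hexp⟩ := CoverTwo.exists_chief K hK hne
  set π := QuotientGroup.mk' L with hπ
  set V := K.map π with hV
  have hπs : Function.Surjective π := QuotientGroup.mk'_surjective L
  have hVn : V.Normal := Subgroup.Normal.map inferInstance π hπs
  let ψ : (G ⧸ L) ⧸ V ≃* G ⧸ K := QuotientGroup.quotientQuotientEquivQuotient L K hLK
  have hVc : IsMulCommutative V := ⟨⟨fun a b => Subtype.ext (hab a a.2 b b.2)⟩⟩
  let _ : CommGroup V := { (inferInstance : Group V) with mul_comm := hVc.is_comm.comm }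
  refine ⟨V, inferInstance, inferInstance, e, (Frob.quotAct V hVc).comp ψ.symm.toMonoidHom, ?_, he, heK, ?_, ?_⟩
  · exact (Subgroup.nontrivial_iff_ne_bot V).2 hV0
  · intro v
    exact Subtype.ext (hexp v v.2)
  · rintro c ⟨v, hv⟩
    obtain ⟨g, hg⟩ := QuotientGroup.mk_surjective ((ψ.symm c)⁻¹)
    have hgo : orderOf (g : (G ⧸ L) ⧸ V) = orderOf c := by
      rw [hg, orderOf_inv, MulEquiv.orderOf_eq]
    obtain ⟨y, hy⟩ := exists_orderOf_of_norm V hVc he hexp g v (by
      rw [hgo, hg, inv_inv]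
      intro h
      apply hv
      rw [← h]
      apply Finset.prod_congr rfl
      intro i _
      rw [MonoidHom.comp_apply]
      congr 2
      exact map_pow ψ.symm c i)
    obtain ⟨y', rfl⟩ := hπs y
    refine ⟨y', ?_⟩
    rw [← hgo, ← hy]
    exact orderOf_map_dvd π y'

end order

section use
variable {G : Type u} [Group G] {K : Subgroup G} [K.Normal] {V : Type u} [CommGroup V]

/-- vanishing norms -/
theorem norm_zero {T : Type v} [Group T] (f : T →* G ⧸ K) (hf : Function.Injective f) {e : ℕ} {θ : G ⧸ K →* MulAut V}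
    (hθ : ∀ c : G ⧸ K, (∃ v : V, ∏ i ∈ range (orderOf c), θ (c ^ i) v ≠ 1) → ∃ y : G, orderOf c * e ∣ orderOf y)
    {P : ℕ → Prop} (hP : ∀ g : G, P (orderOf g)) (hPd : ∀ {m k : ℕ}, P m → k ∣ m → P k) {c : T} {m : ℕ}
    (hm : orderOf c = m) (h : ¬ P (m * e)) : ∑ i ∈ range m, ((toEnd θ).comp f) c ^ i = 0 := by
  by_contra hne
  obtain ⟨v, hv⟩ := norm_ne (θ := θ) (c := f c) (m := m) hne
  have ho : orderOf (f c) = m := by rw [orderOf_injective f hf, hm]
  obtain ⟨y, hy⟩ := hθ (f c) ⟨v, by rw [ho]; exact hv⟩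
  rw [ho] at hy
  exact h (hPd (hP y) hy)

omit [Group G] in
theorem cast_eq_zero {e : ℕ} (he : ∀ v : V, v ^ e = 1) : (e : AddMonoid.End (Additive V)) = 0 := by
  apply AddMonoidHom.ext
  intro v
  change (e : AddMonoid.End (Additive V)) v = 0
  rw [AddMonoid.End.natCast_apply]
  change Additive.ofMul (v.toMul ^ e) = 0
  rw [he]; rfl

theorem one_ne_zero' [Nontrivial V] : (1 : AddMonoid.End (Additive V)) ≠ 0 := by
  intro h
  obtain ⟨v, hv⟩ := exists_ne (1 : V)
  apply hv
  have h1 : (1 : AddMonoid.End (Additive V)) (Additive.ofMul v) = (0 : AddMonoid.End (Additive V)) (Additive.ofMul v) := by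
    rw [h]
  exact h1

/-- an integer prime to the characteristic is invertible -/
theorem exists_inv {R : Type v} [Ring R] {e m : ℕ} (he : (e : R) = 0) (hc : Nat.Coprime m e) : ∃ r : R, r * (m : R) = 1 := by
  have h1 := Nat.isCoprime_iff_coprime.2 hc
  obtain ⟨a, b, hab⟩ := h1
  refine ⟨(a : R), ?_⟩
  have h2 := congrArg (fun z : ℤ => (z : R)) hab
  simp only [Int.cast_add, Int.cast_mul, Int.cast_natCast, Int.cast_one, he, mul_zero, add_zero] at h2
  exact h2

end use

end Cfsg.Agent.H374.R.Rep
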