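import Mathlib
import Cfsg.Agent.H374.R.Rep
import Cfsg.Agent.OddOrderLocal.CNNil

/-!
# The action of `G ⧸ K` on the elements of exponent `e` of the centre of `K`
-/

set_option autoImplicit false

namespace Cfsg.Agent.H374.R.Cent

open Subgroup Finset

universe u

variable {G : Type u} [Group G]

/-- the elements of exponent `e` of the centre of `K` -/
def N (K : Subgroup G) (e : ℕ) : Subgroup G where
  carrier := {v | v ∈ K ∧ (∀ k ∈ K, Commute v k) ∧ v ^ e = 1}
  one_mem' := ⟨K.one_mem, fun _ _ => Commute.one_left _, one_pow _⟩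
  mul_mem' := by
    rintro a b ⟨ha, ha2, ha3⟩ ⟨hb, hb2, hb3⟩
    refine ⟨K.mul_mem ha hb, fun k hk => (ha2 k hk).mul_left (hb2 k hk), ?_⟩
    rw [(ha2 b hb).mul_pow, ha3, hb3, one_mul]
  inv_mem' := by
    rintro a ⟨ha, ha2, ha3⟩
    refine ⟨K.inv_mem ha, fun k hk => (ha2 k hk).inv_left, ?_⟩
    rw [inv_pow, ha3, inv_one]

theorem mem_N {K : Subgroup G} {e : ℕ} {v : G} : v ∈ N K e ↔ v ∈ K ∧ (∀ k ∈ K, Commute v k) ∧ v ^ e = 1 := Iff.rfl

theorem N_le (K : Subgroup G) (e : ℕ) : N K e ≤ K := fun _ h => h.1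

instance N_normal (K : Subgroup G) [hK : K.Normal] (e : ℕ) : (N K e).Normal where
  conj_mem := by
    rintro v ⟨h1, h2, h3⟩ g
    refine ⟨hK.conj_mem v h1 g, ?_, ?_⟩
    · intro k hk
      have h4 := h2 (g⁻¹ * k * g) (by
        have := hK.conj_mem k hk g⁻¹
        rwa [inv_inv] at this)
      have h5 : v * (g⁻¹ * k * g) = g⁻¹ * k * g * v := h4
      change g * v * g⁻¹ * k = k * (g * v * g⁻¹)
      calc g * v * g⁻¹ * k = g * (v * (g⁻¹ * k * g)) * g⁻¹ := by group
        _ = g * (g⁻¹ * k * g * v) * g⁻¹ := by rw [h5]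
        _ = _ := by group
    · rw [conj_pow, h3]; group

instance commGroup (K : Subgroup G) (e : ℕ) : CommGroup (N K e) :=
  { (inferInstance : Group (N K e)) with
    mul_comm := fun a b => Subtype.ext (a.2.2.1 b b.2.1) }

/-- the action -/
def act (K : Subgroup G) [K.Normal] (e : ℕ) : G ⧸ K →* MulAut (N K e) :=
  QuotientGroup.lift K MulAut.conjNormal (by
    intro k hk
    rw [MonoidHom.mem_ker]
    apply MulEquiv.ext
    intro x
    apply Subtype.ext
    rw [MulAut.conjNormal_apply, MulAut.one_apply]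
    have h2 : (x : G) * k = k * x := x.2.2.1 k hk
    rw [← h2, mul_inv_cancel_right])

theorem act_mk (K : Subgroup G) [K.Normal] (e : ℕ) (g : G) (v : N K e) :
    ((act K e (g : G ⧸ K) v : N K e) : G) = g * v * g⁻¹ := by
  change ((MulAut.conjNormal g v : N K e) : G) = _
  rw [MulAut.conjNormal_apply]

theorem N_pow {K : Subgroup G} {e : ℕ} (v : N K e) : v ^ e = 1 := Subtype.ext v.2.2.2

theorem dvd_of_pow [Finite G] {y : G} {m e : ℕ} (hm : m ∣ orderOf y) (he : e ∣ orderOf (y ^ m)) :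
    m * e ∣ orderOf y := by
  have hm0 : m ≠ 0 := by
    rintro rfl
    exact (orderOf_pos y).ne' (Nat.eq_zero_of_zero_dvd hm)
  rw [orderOf_pow_of_dvd hm0 hm] at he
  obtain ⟨k, hk⟩ := he
  refine ⟨k, ?_⟩
  rw [mul_assoc, ← hk, Nat.mul_div_cancel' hm]

/-- the powers of `v g` -/
theorem mul_pow_eq (K : Subgroup G) [K.Normal] (e : ℕ) (v : N K e) (g : G) (k : ℕ) :
    ((v : G) * g) ^ k = ((∏ i ∈ range k, act K e ((g : G ⧸ K) ^ i) v : N K e) : G) * g ^ k := by
  induction k with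
  | zero => simp
  | succ k ih =>
    rw [pow_succ, ih, Finset.prod_range_succ, Subgroup.coe_mul, ← QuotientGroup.mk_pow, act_mk, pow_succ]
    group

/-- **An element of order divisible by `m e`.** -/
theorem exists_orderOf [Finite G] (K : Subgroup G) [K.Normal] {e : ℕ} (he : e.Prime) (c : G ⧸ K)
    (hc : ∃ v : N K e, ∏ i ∈ range (orderOf c), act K e (c ^ i) v ≠ 1) : ∃ y : G, orderOf c * e ∣ orderOf y := by
  obtain ⟨v, hv⟩ := hc
  obtain ⟨g, rfl⟩ := QuotientGroup.mk_surjective c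
  set m := orderOf (g : G ⧸ K) with hm
  have hdv : ∀ y : G, (y : G ⧸ K) = g → m ∣ orderOf y := by
    intro y hy
    rw [hm, ← hy]
    exact orderOf_map_dvd (QuotientGroup.mk' K) y
  by_cases h1 : e ∣ orderOf (g ^ m)
  · exact ⟨g, dvd_of_pow (hdv g rfl) h1⟩
  · refine ⟨v * g, dvd_of_pow (hdv _ ?_) ?_⟩
    · rw [QuotientGroup.mk_mul, (QuotientGroup.eq_one_iff _).2 v.2.1, one_mul]
    · rw [mul_pow_eq]
      set w := ∏ i ∈ range m, act K e ((g : G ⧸ K) ^ i) v with hw
      have h2 : orderOf (w : G) = e := by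
        have := Fact.mk he
        refine orderOf_eq_prime w.2.2.2 ?_
        intro h
        exact hv (Subtype.ext h)
      have h3 : Commute (w : G) (g ^ m) := w.2.2.1 _ (by
        rw [← QuotientGroup.eq_one_iff, QuotientGroup.mk_pow, hm, pow_orderOf_eq_one])
      rw [h3.orderOf_mul_eq_mul_orderOf_of_coprime (by
        rw [h2]; exact (Nat.Prime.coprime_iff_not_dvd he).2 h1), h2]
      exact Dvd.intro _ rfl

/-- the group is not trivial -/
theorem exists_ne [Finite G] {K : Subgroup G} (hK : Group.IsNilpotent K) {e : ℕ} (he : e.Prime)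
    (hd : e ∣ Nat.card K) : ∃ v : N K e, v ≠ 1 := by
  obtain ⟨z, hz, hzo, hzc⟩ := Cfsg.Agent.OddOrderLocal.CNNil.exists_central_orderOf_subgroup hK he hd
  refine ⟨⟨z, hz, fun k hk => (hzc k hk).symm, by rw [← hzo, pow_orderOf_eq_one]⟩, ?_⟩
  intro h
  have h1 : z = 1 := congrArg Subtype.val h
  rw [h1, orderOf_one] at hzo
  exact he.one_lt.ne hzo

end Cfsg.Agent.H374.R.Cent
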