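import Mathlib
import Cfsg.Agent.H374.Quad

/-!
# Arithmetic of the spectrum of `PSp₄(q)`, `q = 3 ^ n`, `n ≥ 3` odd

`W n m` : `m` is the order of an element. `M n = (q² + 1) / 2`.
-/

set_option autoImplicit false

namespace Cfsg.Agent.H374.R

/-- `(q² + 1) / 2` for `q = 3 ^ n` -/
def M (n : ℕ) : ℕ := (3 ^ n * 3 ^ n + 1) / 2

/-- the spectrum of `PSp₄(3ⁿ)`, `n` odd -/
def W (n m : ℕ) : Prop :=
  m ∣ 3 * (3 ^ n - 1) ∨ m ∣ 3 * (3 ^ n + 1) ∨ m ∣ (3 ^ n * 3 ^ n - 1) / 2 ∨ m ∣ M n ∨ m ∣ 9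

/-- the primes of `M n` -/
def A (n : ℕ) : Set ℕ := {r | r ∣ M n}

/-- the facts about `q = 3 ^ n` which are used -/
structure Q (n q M : ℕ) : Prop where
  hq : q = 3 ^ n
  big : 27 ≤ q
  three : 3 ∣ q
  mod : q % 8 = 3
  sq16 : q * q % 16 = 9
  hM : 2 * M = q * q + 1
  five : 5 ∣ M
  seven : ¬ 7 ∣ M

theorem eighty_one (k : ℕ) : 81 ^ k % 7 = 1 ∨ 81 ^ k % 7 = 2 ∨ 81 ^ k % 7 = 4 := by
  induction k with
  | zero => left; rfl
  | succ k ih => rw [pow_succ]; omega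

theorem q_facts {n : ℕ} (ho : Odd n) (h3 : 3 ≤ n) : Q n (3 ^ n) (M n) := by
  obtain ⟨k, rfl⟩ := ho
  have hk : 1 ≤ k := by omega
  have hbig : 27 ≤ 3 ^ (2 * k + 1) := by
    calc 27 = 3 ^ 3 := by norm_num
      _ ≤ 3 ^ (2 * k + 1) := Nat.pow_le_pow_right (by norm_num) (by omega)
  have h9 : 3 ^ (2 * k + 1) = 3 * 9 ^ k := by
    rw [pow_succ, pow_mul]; norm_num [mul_comm]
  have hmod : 3 ^ (2 * k + 1) % 8 = 3 := by
    rw [h9, Nat.mul_mod, Nat.pow_mod]; norm_num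
  have hsq : 3 ^ (2 * k + 1) * 3 ^ (2 * k + 1) = 9 * 81 ^ k := by
    rw [h9]
    have : (81 : ℕ) ^ k = 9 ^ k * 9 ^ k := by rw [← mul_pow]; norm_num
    rw [this]; ring
  have h16 : 3 ^ (2 * k + 1) * 3 ^ (2 * k + 1) % 16 = 9 := by
    rw [hsq, Nat.mul_mod, Nat.pow_mod]; norm_num
  have h5 : (3 ^ (2 * k + 1) * 3 ^ (2 * k + 1) + 1) % 10 = 0 := by
    rw [hsq]
    have : 81 ^ k % 10 = 1 := by rw [Nat.pow_mod]; norm_num
    omega
  have h7 : ¬ 7 ∣ (3 ^ (2 * k + 1) * 3 ^ (2 * k + 1) + 1) := by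
    rw [hsq]
    have h8 := eighty_one k
    omega
  have hM : 2 * M (2 * k + 1) = 3 ^ (2 * k + 1) * 3 ^ (2 * k + 1) + 1 := by
    unfold M
    generalize 3 ^ (2 * k + 1) * 3 ^ (2 * k + 1) = P at *
    omega
  refine ⟨rfl, hbig, dvd_pow_self 3 (by omega), hmod, h16, hM, ?_, ?_⟩
  · rw [← hM] at h5
    omega
  · intro h
    apply h7
    rw [← hM]
    exact h.mul_left 2

variable {n q M' : ℕ}

theorem Q.odd (h : Q n q M') : M' % 8 = 5 := by
  have := h.hM; have := h.sq16; omega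

theorem Q.not_three (h : Q n q M') : ¬ 3 ∣ M' := by
  intro h3
  have h1 := h.hM
  have h2 : 3 ∣ q * q := h.three.mul_left q
  omega

theorem Q.sq_sub (h : Q n q M') : (q * q - 1) / 2 = M' - 1 := by
  have := h.hM; omega

theorem Q.big_M (h : Q n q M') : 3 * (q + 1) ≤ M' ∧ 365 ≤ M' := by
  have h1 := h.hM
  have h2 := h.big
  have h3 : 27 * q ≤ q * q := Nat.mul_le_mul_right q h2
  omega

theorem Q.coprime_sq (h : Q n q M') : Nat.Coprime M' (q * q - 1) := by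
  rw [Nat.coprime_iff_gcd_eq_one]
  have h1 : Nat.gcd M' (q * q - 1) ∣ 2 := by
    have h2 : Nat.gcd M' (q * q - 1) ∣ 2 * M' := (Nat.gcd_dvd_left _ _).mul_left 2
    have h3 := Nat.gcd_dvd_right M' (q * q - 1)
    have h4 := Nat.dvd_sub h2 h3
    have h5 : 2 * M' - (q * q - 1) = 2 := by
      have := h.hM; have := h.big_M; omega
    rwa [h5] at h4
  rcases (Nat.dvd_prime Nat.prime_two).1 h1 with h2 | h2
  · exact h2
  · exfalso
    have h3 : 2 ∣ M' := h2 ▸ Nat.gcd_dvd_left _ _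
    have := h.odd
    omega

/-- everything but the torus of order `M` has order prime to `M` -/
theorem Q.coprime_all (h : Q n q M') : Nat.Coprime M' (9 * (q * q - 1)) := by
  apply Nat.Coprime.mul_right _ h.coprime_sq
  have : Nat.Coprime M' (3 ^ 2) := by
    apply Nat.Coprime.pow_right
    exact ((Nat.Prime.coprime_iff_not_dvd Nat.prime_three).2 h.not_three).symm
  simpa using this

theorem Q.sub_mul (h : Q n q M') : (q - 1) * (q + 1) = q * q - 1 := by
  have h1 := h.big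
  obtain ⟨k, rfl⟩ : ∃ k, q = k + 1 := ⟨q - 1, by omega⟩
  rw [Nat.add_sub_cancel]
  have : (k + 1) * (k + 1) = k * (k + 1 + 1) + 1 := by ring
  omega

theorem Q.dvd_all (h : Q n q M') {m : ℕ} (hm : m ∣ 3 * (q - 1) ∨ m ∣ 3 * (q + 1) ∨ m ∣ (q * q - 1) / 2 ∨ m ∣ 9) :
    m ∣ 9 * (q * q - 1) := by
  rcases hm with h1 | h1 | h1 | h1
  · refine h1.trans ⟨3 * (q + 1), ?_⟩
    rw [← h.sub_mul]; ring
  · refine h1.trans ⟨3 * (q - 1), ?_⟩
    rw [← h.sub_mul]; ring
  · refine h1.trans ⟨18, ?_⟩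
    have : (q * q - 1) / 2 * 2 = q * q - 1 := by
      have := h.sq16; omega
    omega
  · exact h1.mul_right _

theorem W.cases (h : Q n (3 ^ n) (M n)) {m : ℕ} (hm : W n m) : m ∣ M n ∨ Nat.Coprime (M n) m := by
  rcases hm with h1 | h1 | h1 | h1 | h1
  · exact Or.inr (h.coprime_all.coprime_dvd_right (h.dvd_all (Or.inl h1)))
  · exact Or.inr (h.coprime_all.coprime_dvd_right (h.dvd_all (Or.inr (Or.inl h1))))
  · exact Or.inr (h.coprime_all.coprime_dvd_right (h.dvd_all (Or.inr (Or.inr (Or.inl h1)))))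
  · exact Or.inl h1
  · exact Or.inr (h.coprime_all.coprime_dvd_right (h.dvd_all (Or.inr (Or.inr (Or.inr h1)))))

theorem W.dvd {m : ℕ} (hm : W n m) {k : ℕ} (hk : k ∣ m) : W n k := by
  rcases hm with h1 | h1 | h1 | h1 | h1
  · exact Or.inl (hk.trans h1)
  · exact Or.inr (Or.inl (hk.trans h1))
  · exact Or.inr (Or.inr (Or.inl (hk.trans h1)))
  · exact Or.inr (Or.inr (Or.inr (Or.inl (hk.trans h1))))
  · exact Or.inr (Or.inr (Or.inr (Or.inr (hk.trans h1))))

theorem W.nine (h : Q n (3 ^ n) (M n)) {m : ℕ} (hm : W n m) (h9 : 9 ∣ m) : m ∣ 9 := by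
  have h3 := h.three
  have hb := h.big
  rcases hm with h1 | h1 | h1 | h1 | h1
  · exfalso
    have h2 := h9.trans h1
    omega
  · exfalso
    have h2 := h9.trans h1
    omega
  · exfalso
    have h2 : 9 ∣ (3 ^ n * 3 ^ n - 1) / 2 := h9.trans h1
    have h4 : 3 ∣ 3 ^ n * 3 ^ n := h3.mul_left _
    have h5 := h.sq16
    omega
  · exfalso
    exact h.not_three ((show 3 ∣ 9 by norm_num).trans (h9.trans h1))
  · exact h1

theorem W.not_eight (h : Q n (3 ^ n) (M n)) {m : ℕ} (hm : W n m) : ¬ 8 ∣ m := by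
  intro h8
  have h0 := h.mod
  have hb := h.big
  rcases hm with h1 | h1 | h1 | h1 | h1
  · have h2 := h8.trans h1; omega
  · have h2 := h8.trans h1; omega
  · have h2 : 8 ∣ (3 ^ n * 3 ^ n - 1) / 2 := h8.trans h1
    have h5 := h.sq16
    omega
  · have h2 := h8.trans h1
    have := h.odd; omega
  · have h2 := h8.trans h1; omega

theorem W.le (h : Q n (3 ^ n) (M n)) {m : ℕ} (hm : W n m) : m ≤ M n := by
  have h0 := h.hM
  have hb := h.big_M
  have hq := h.big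
  rcases hm with h1 | h1 | h1 | h1 | h1
  · have := Nat.le_of_dvd (by omega) h1; omega
  · have := Nat.le_of_dvd (by omega) h1; omega
  · have h2 := Nat.le_of_dvd (by omega) h1
    rw [h.sq_sub] at h2; omega
  · exact Nat.le_of_dvd (by omega) h1
  · have := Nat.le_of_dvd (by omega) h1; omega

/-- a multiple of three in the spectrum is small -/
theorem W.three_le (h : Q n (3 ^ n) (M n)) {m : ℕ} (hm : W n m) (h3 : 3 ∣ m) : m ≤ 3 * (3 ^ n + 1) := by
  have hq := h.big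
  rcases hm with h1 | h1 | h1 | h1 | h1
  · have := Nat.le_of_dvd (by omega) h1; omega
  · exact Nat.le_of_dvd (by omega) h1
  · exfalso
    have h2 : 3 ∣ (3 ^ n * 3 ^ n - 1) / 2 := h3.trans h1
    have h4 : 3 ∣ 3 ^ n * 3 ^ n := h.three.mul_left _
    have h5 := h.sq16
    omega
  · exact absurd (h3.trans h1) h.not_three
  · have := Nat.le_of_dvd (by omega) h1; omega

/-- a prime `s ≥ 5` dividing `q - 1` -/
theorem exists_s (h : Q n (3 ^ n) (M n)) : ∃ s : ℕ, s.Prime ∧ 5 ≤ s ∧ s ∣ 3 ^ n - 1 ∧ ¬ s ∣ M n := by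
  have hq := h.big
  have hm := h.mod
  have h3 := h.three
  set k := (3 ^ n - 1) / 2 with hk
  have hk1 : k ≠ 1 := by omega
  refine ⟨k.minFac, Nat.minFac_prime hk1, ?_, ?_, ?_⟩
  · have h2 : k.minFac ∣ k := Nat.minFac_dvd k
    have hp := Nat.minFac_prime hk1
    by_contra hlt
    have h4 : k.minFac = 2 ∨ k.minFac = 3 := by
      have := hp.two_le
      have h5 : k.minFac ≠ 4 := by
        intro h; rw [h] at hp; exact absurd hp (by norm_num)
      omega
    rcases h4 with h4 | h4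
    · rw [h4] at h2; omega
    · rw [h4] at h2; omega
  · refine (Nat.minFac_dvd k).trans ⟨2, by omega⟩
  · intro hd
    have hp := Nat.minFac_prime hk1
    have h1 : k.minFac ∣ 3 ^ n * 3 ^ n - 1 := by
      rw [← h.sub_mul]
      exact ((Nat.minFac_dvd k).trans ⟨2, by omega⟩).mul_right _
    have h2 := h.coprime_sq
    exact hp.one_lt.ne' (Nat.dvd_one.1 (h2 ▸ Nat.dvd_gcd hd h1))

theorem W_s (h : Q n (3 ^ n) (M n)) {s : ℕ} (hs : s ∣ 3 ^ n - 1) : W n s := Or.inl (hs.mul_left 3)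

/-- from the general theorem -/
theorem W_iff (h : Q n (3 ^ n) (M n)) (m : ℕ) : Quad.Om 3 (3 ^ n) m ↔ W n m := by
  have hq := h.big
  have hm := h.mod
  have hg : Nat.gcd 2 (3 ^ n - 1) = 2 := Nat.gcd_eq_left (by omega)
  unfold Quad.Om W M
  rw [hg, pow_two]
  constructor
  · rintro (h | h | h | h | ⟨-, h⟩ | ⟨h, -⟩)
    · exact Or.inl h
    · exact Or.inr (Or.inl h)
    · exact Or.inr (Or.inr (Or.inl h))
    · exact Or.inr (Or.inr (Or.inr (Or.inl h)))
    · exact Or.inr (Or.inr (Or.inr (Or.inr h)))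
    · omega
  · rintro (h | h | h | h | h)
    · exact Or.inl h
    · exact Or.inr (Or.inl h)
    · exact Or.inr (Or.inr (Or.inl h))
    · exact Or.inr (Or.inr (Or.inr (Or.inl h)))
    · exact Or.inr (Or.inr (Or.inr (Or.inr (Or.inl ⟨rfl, h⟩))))

end Cfsg.Agent.H374.R
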