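import Mathlib
import Cfsg.Agent.H374.R.Rad
import Cfsg.Agent.LieRecognition.FT61.Grp

/-!
# The index of a simple normal subgroup from the automizer of a subgroup of order five
-/

set_option autoImplicit false

namespace Cfsg.Agent.H374.R.Five

open Subgroup Cfsg Cfsg.Agent.H466.Split Cfsg.Agent

universe u

/-- conjugacy of the subgroups of order five -/
theorem conj_five {S : Type u} [Group S] [Finite S] {m R : ℕ} {x : S} (hx : orderOf x = m)
    (hcard : Nat.card S = m * R) (hcop : m.Coprime R) (h5 : 5 ∣ m) {b1 b2 : S} (h1 : orderOf b1 = 5)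
    (h2 : orderOf b2 = 5) : ∃ g : S, g * b1 * g⁻¹ ∈ zpowers b2 := by
  have p5 : Nat.Prime 5 := by norm_num
  have := Fact.mk p5
  have hm0 : m ≠ 0 := by rw [← hx]; exact (orderOf_pos x).ne'
  have hR0 : R ≠ 0 := by
    rintro rfl
    rw [mul_zero] at hcard
    exact Nat.card_pos.ne' hcard
  have h5R : ¬ 5 ∣ R := by
    intro h
    exact p5.one_lt.ne' (Nat.dvd_one.1 (hcop ▸ Nat.dvd_gcd h5 h))
  -- a cyclic Sylow subgroup
  set a := m.factorization 5 with ha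
  have hdv : 5 ^ a ∣ m := Nat.ordProj_dvd m 5
  obtain ⟨c, hc⟩ := hdv
  have hc0 : c ≠ 0 := by rintro rfl; rw [mul_zero] at hc; exact hm0 hc
  have hyo : orderOf (x ^ c) = 5 ^ a := by
    rw [orderOf_pow_of_dvd hc0 (by rw [hx, hc]; exact Dvd.intro_left _ rfl), hx, hc,
      Nat.mul_div_cancel _ (Nat.pos_of_ne_zero hc0)]
  have hcardP : Nat.card (zpowers (x ^ c)) = 5 ^ (Nat.card S).factorization 5 := by
    rw [Nat.card_zpowers, hyo, hcard, Nat.factorization_mul hm0 hR0, Finsupp.coe_add, Pi.add_apply,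
      Nat.factorization_eq_zero_of_not_dvd h5R, add_zero]
  let P0 : Sylow 5 S := Sylow.ofCard (zpowers (x ^ c)) hcardP
  have hcoe : (P0 : Subgroup S) = zpowers (x ^ c) := Sylow.coe_ofCard _ _
  have hinto : ∀ b : S, orderOf b = 5 → ∃ g : S, g * b * g⁻¹ ∈ zpowers (x ^ c) := by
    intro b hb
    have hpg : IsPGroup 5 (zpowers b) := by
      rw [IsPGroup.iff_card]
      exact ⟨1, by rw [Nat.card_zpowers, hb, pow_one]⟩
    obtain ⟨P1, hP1⟩ := hpg.exists_le_sylow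
    obtain ⟨g, hg⟩ := MulAction.exists_smul_eq S P1 P0
    refine ⟨g, ?_⟩
    rw [← hcoe, ← hg]
    have h3 : b ∈ (P1 : Subgroup S) := hP1 (mem_zpowers b)
    exact Subgroup.smul_mem_pointwise_smul b (MulAut.conj g) (P1 : Subgroup S) h3
  obtain ⟨g1, hg1⟩ := hinto b1 h1
  obtain ⟨g2, hg2⟩ := hinto b2 h2
  have hord : ∀ g b : S, orderOf (g * b * g⁻¹) = orderOf b := by
    intro g b
    have := MulEquiv.orderOf_eq (MulAut.conj g) b
    rwa [MulAut.conj_apply] at this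
  have hz : zpowers (g1 * b1 * g1⁻¹) = zpowers (g2 * b2 * g2⁻¹) :=
    Cfsg.Agent.LieRecognition.FT61.Grp.zpowers_eq_of_orderOf (H := zpowers (x ^ c)) inferInstance hg1 hg2
      (by rw [hord, hord, h1, h2])
  have h3 : g1 * b1 * g1⁻¹ ∈ zpowers (g2 * b2 * g2⁻¹) := by
    rw [← hz]; exact mem_zpowers _
  obtain ⟨k, hk⟩ := Subgroup.mem_zpowers_iff.1 h3
  refine ⟨g2⁻¹ * g1, Subgroup.mem_zpowers_iff.2 ⟨k, ?_⟩⟩
  rw [conj_zpow] at hk
  calc b2 ^ k = g2⁻¹ * (g2 * b2 ^ k * g2⁻¹) * g2 := by group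
    _ = g2⁻¹ * (g1 * b1 * g1⁻¹) * g2 := by rw [hk]
    _ = _ := by group

section index

variable {A : Set ℕ} {H : Type u} [Group H] [Finite H]

theorem mem_of_commute (hs : Spl A H) (h5 : 5 ∈ A) (S : Subgroup H) [S.Normal]
    (hidx : ∀ p : ℕ, p.Prime → p ∈ A → ¬ p ∣ S.index) {b : H} (hb : orderOf b = 5) {x : H}
    (hx : Commute x b) : x ∈ S := by
  have p5 : Nat.Prime 5 := by norm_num
  have hb1 : b ≠ 1 := by rintro rfl; rw [orderOf_one] at hb; omega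
  have h1 := Rad.cent_elt hs hb1 (Rad.prime_mem p5 hb h5) hx
  rw [← QuotientGroup.eq_one_iff]
  refine eq_one_of_both (A := A) ?_ ?_
  · intro p hp hd
    exact h1 p hp (hd.trans (orderOf_map_dvd (QuotientGroup.mk' S) x))
  · intro p hp hd hpA
    exact hidx p hp hpA (hd.trans (_root_.orderOf_dvd_natCard _))

/-- a translate normalises `⟨b⟩` -/
theorem exists_exp (S : Subgroup H) [hSn : S.Normal]
    (hconj : ∀ b1 b2 : S, orderOf b1 = 5 → orderOf b2 = 5 → ∃ g : S, g * b1 * g⁻¹ ∈ zpowers b2) {b : H}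
    (hbS : b ∈ S) (hb : orderOf b = 5) (h : H) :
    ∃ s ∈ S, ∃ k : ℕ, (k % 5 = 1 ∨ k % 5 = 2 ∨ k % 5 = 3 ∨ k % 5 = 4) ∧ (s * h) * b * (s * h)⁻¹ = b ^ k := by
  have hord : orderOf (h * b * h⁻¹) = 5 := by
    have := MulEquiv.orderOf_eq (MulAut.conj h) b
    rw [MulAut.conj_apply] at this
    rw [this, hb]
  obtain ⟨g, hg⟩ := hconj ⟨h * b * h⁻¹, hSn.conj_mem _ hbS _⟩ ⟨b, hbS⟩ (by rw [Subgroup.orderOf_mk, hord])
    (by rw [Subgroup.orderOf_mk, hb])
  rw [← mem_powers_iff_mem_zpowers] at hg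
  obtain ⟨k, hk⟩ := hg
  have hk' : b ^ k = (g : H) * (h * b * h⁻¹) * (g : H)⁻¹ := congrArg Subtype.val hk
  refine ⟨g, g.2, k, ?_, ?_⟩
  · have : ¬ 5 ∣ k := by
      intro hd
      have h1 : b ^ k = 1 := orderOf_dvd_iff_pow_eq_one.1 (hb ▸ hd)
      rw [hk'] at h1
      have h2 : b = 1 := by
        calc b = ((g : H) * h)⁻¹ * ((g : H) * (h * b * h⁻¹) * (g : H)⁻¹) * ((g : H) * h) := by group
          _ = 1 := by rw [h1]; group
      rw [h2, orderOf_one] at hb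
      omega
    omega
  · rw [hk']; group

omit [Finite H] in
theorem pow_mod_five {b : H} (hb : orderOf b = 5) (k : ℕ) : b ^ k = b ^ (k % 5) := by
  rw [← hb, pow_mod_orderOf]

/-- automizer of order four -/
theorem eq_top (hs : Spl A H) (h5 : 5 ∈ A) (S : Subgroup H) [hSn : S.Normal]
    (hidx : ∀ p : ℕ, p.Prime → p ∈ A → ¬ p ∣ S.index)
    (hconj : ∀ b1 b2 : S, orderOf b1 = 5 → orderOf b2 = 5 → ∃ g : S, g * b1 * g⁻¹ ∈ zpowers b2) {b s : H}
    (hbS : b ∈ S) (hsS : s ∈ S) (hb : orderOf b = 5) (hsb : s * b * s⁻¹ = b ^ 2) : S = ⊤ := by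
  rw [eq_top_iff]
  intro h _
  obtain ⟨s', hs', k, hk, hkb⟩ := exists_exp S hconj hbS hb h
  have hpow : ∀ j i : ℕ, s ^ j * b ^ i * (s ^ j)⁻¹ = b ^ (2 ^ j * i) := by
    intro j
    induction j with
    | zero => intro i; simp
    | succ j ih =>
      intro i
      calc s ^ (j + 1) * b ^ i * (s ^ (j + 1))⁻¹ = s ^ j * (s * b ^ i * s⁻¹) * (s ^ j)⁻¹ := by
            rw [pow_succ]; group
        _ = s ^ j * b ^ (2 * i) * (s ^ j)⁻¹ := by rw [← conj_pow, hsb, ← pow_mul]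
        _ = b ^ (2 ^ (j + 1) * i) := by rw [ih, pow_succ]; ring_nf
  have key : ∀ j : ℕ, (2 ^ j * k) % 5 = 1 → h ∈ S := by
    intro j hj
    have h1 : (s ^ j * (s' * h)) * b * (s ^ j * (s' * h))⁻¹ = b := by
      calc (s ^ j * (s' * h)) * b * (s ^ j * (s' * h))⁻¹ = s ^ j * ((s' * h) * b * (s' * h)⁻¹) * (s ^ j)⁻¹ := by group
        _ = b := by rw [hkb, hpow, pow_mod_five hb, hj, pow_one]
    have h2 : s ^ j * (s' * h) ∈ S := mem_of_commute hs h5 S hidx hb (mul_inv_eq_iff_eq_mul.1 h1)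
    exact (S.mul_mem_cancel_left hs').1 ((S.mul_mem_cancel_left (S.pow_mem hsS j)).1 h2)
  rcases hk with hk | hk | hk | hk
  · exact key 0 (by omega)
  · exact key 3 (by omega)
  · exact key 1 (by omega)
  · exact key 2 (by omega)

/-- automizer of order at least two -/
theorem mul_mem_of (hs : Spl A H) (h5 : 5 ∈ A) (S : Subgroup H) [hSn : S.Normal]
    (hidx : ∀ p : ℕ, p.Prime → p ∈ A → ¬ p ∣ S.index)
    (hconj : ∀ b1 b2 : S, orderOf b1 = 5 → orderOf b2 = 5 → ∃ g : S, g * b1 * g⁻¹ ∈ zpowers b2) {b s : H}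
    (hbS : b ∈ S) (hsS : s ∈ S) (hb : orderOf b = 5) (hsb : s * b * s⁻¹ = b⁻¹) {x y : H} (hx : x ∉ S)
    (hy : y ∉ S) : x * y ∈ S := by
  have hinv : b⁻¹ = b ^ 4 := by
    rw [inv_eq_iff_mul_eq_one, ← pow_succ', show 4 + 1 = orderOf b by rw [hb], pow_orderOf_eq_one]
  have key : ∀ (h : H) (k : ℕ), (k % 5 = 1 ∨ k % 5 = 4) → h * b * h⁻¹ = b ^ k → h ∈ S := by
    intro h k hk hkb
    rcases hk with hk | hk
    · rw [pow_mod_five hb, hk, pow_one] at hkb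
      exact mem_of_commute hs h5 S hidx hb (mul_inv_eq_iff_eq_mul.1 hkb)
    · rw [pow_mod_five hb, hk, ← hinv] at hkb
      have h1 : (s * h) * b * (s * h)⁻¹ = b := by
        calc (s * h) * b * (s * h)⁻¹ = s * (h * b * h⁻¹) * s⁻¹ := by group
          _ = (s * b * s⁻¹)⁻¹ := by rw [hkb]; group
          _ = b := by rw [hsb, inv_inv]
      exact (S.mul_mem_cancel_left hsS).1 (mem_of_commute hs h5 S hidx hb (mul_inv_eq_iff_eq_mul.1 h1))
  have hout : ∀ h : H, h ∉ S → ∃ s ∈ S, ∃ k : ℕ, (k % 5 = 2 ∨ k % 5 = 3) ∧ (s * h) * b * (s * h)⁻¹ = b ^ k := by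
    intro h hh
    obtain ⟨s', hs', k, hk, hkb⟩ := exists_exp S hconj hbS hb h
    refine ⟨s', hs', k, ?_, hkb⟩
    by_contra hcon
    exact hh ((S.mul_mem_cancel_left hs').1 (key _ k (by omega) hkb))
  obtain ⟨s1, hs1, k, hk, hkb⟩ := hout x hx
  obtain ⟨s2, hs2, l, hl, hlb⟩ := hout y hy
  have h1 : (s1 * x * (s2 * y)) * b * (s1 * x * (s2 * y))⁻¹ = b ^ (k * l) := by
    calc (s1 * x * (s2 * y)) * b * (s1 * x * (s2 * y))⁻¹ = (s1 * x) * ((s2 * y) * b * (s2 * y)⁻¹) * (s1 * x)⁻¹ := by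
          group
      _ = (s1 * x) * b ^ l * (s1 * x)⁻¹ := by rw [hlb]
      _ = ((s1 * x) * b * (s1 * x)⁻¹) ^ l := by rw [conj_pow]
      _ = b ^ (k * l) := by rw [hkb, ← pow_mul]
  have h2 : s1 * x * (s2 * y) ∈ S := by
    refine key _ (k * l) ?_ h1
    rcases hk with hk | hk <;> rcases hl with hl | hl <;> simp [Nat.mul_mod, hk, hl]
  have h3 : s1 * x * (s2 * y) = s1 * (x * s2 * x⁻¹) * (x * y) := by group
  rw [h3] at h2
  exact (S.mul_mem_cancel_left (S.mul_mem hs1 (hSn.conj_mem s2 hs2 x))).1 h2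

end index

end Cfsg.Agent.H374.R.Five
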