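import Mathlib
import Cfsg.Agent.H372.Sp
import Cfsg.Agent.LieClassical.SympCenter

/-!
# Elements of `PSp₄(F)`, characteristic three
-/

set_option autoImplicit false

namespace Cfsg.Agent.H374.R.SpData

open Matrix Subgroup Cfsg

abbrev Sp3 := Matrix.symplecticGroup (Fin 2) (ZMod 3)

abbrev Mat3 := Matrix (Fin 2 ⊕ Fin 2) (Fin 2 ⊕ Fin 2) (ZMod 3)

/-- equality up to sign -/
def Rel (A B : Mat3) : Prop := A = B ∨ A = -B

instance (A B : Mat3) : Decidable (Rel A B) := by unfold Rel; infer_instance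

def mT : Mat3 := fromBlocks 0 1 (-1) 0
def mT2 : Mat3 := fromBlocks 0 !![-1, 0; 0, 1] !![1, 0; 0, -1] 0
def mG : Mat3 := fromBlocks !![1, 0; 0, 1] !![1, 0; 0, 0] !![1, 0; 0, 0] !![-1, 0; 0, 1]
def mE : Mat3 := fromBlocks !![1, 2; 1, 1] !![2, 2; 2, 1] !![1, 1; 1, 2] !![1, 2; 1, 1]
def mB : Mat3 := fromBlocks !![0, 0; 0, 0] !![0, 2; 2, 0] !![0, 1; 1, 0] !![0, 0; 0, 0]
def mZ : Mat3 := fromBlocks !![2, 2; 2, 2] !![2, 1; 0, 0] !![2, 1; 2, 0] !![0, 0; 1, 1]
def mS : Mat3 := fromBlocks !![2, 1; 0, 2] !![1, 2; 1, 2] !![1, 0; 1, 1] !![0, 2; 2, 2]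

theorem mem_of (A : Mat3) (h : A * Matrix.J (Fin 2) (ZMod 3) * Aᵀ = Matrix.J (Fin 2) (ZMod 3)) :
    A ∈ Matrix.symplecticGroup (Fin 2) (ZMod 3) := h

def eT : Sp3 := ⟨mT, mem_of _ (by decide +kernel)⟩
def eT2 : Sp3 := ⟨mT2, mem_of _ (by decide +kernel)⟩
def eG : Sp3 := ⟨mG, mem_of _ (by decide +kernel)⟩
def eE : Sp3 := ⟨mE, mem_of _ (by decide +kernel)⟩
def eB : Sp3 := ⟨mB, mem_of _ (by decide +kernel)⟩
def eZ : Sp3 := ⟨mZ, mem_of _ (by decide +kernel)⟩
def eS : Sp3 := ⟨mS, mem_of _ (by decide +kernel)⟩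

theorem rT : Rel (mT * mT) 1 := by decide +kernel
theorem rTT2 : Rel (mT * mT2) (mT2 * mT) := by decide +kernel
theorem rTB : Rel (mT * mB) (mB * mT) := by decide +kernel
theorem rTE : Rel (mT * mE) (mE * mT) := by decide +kernel
theorem rE : Rel (mE ^ 3) 1 := by decide +kernel
theorem rT2 : Rel (mT2 * mT2) 1 := by decide +kernel
theorem rT2B : Rel (mT2 * mB) (mB * mT2) := by decide +kernel
theorem rB : Rel (mB * mB) 1 := by decide +kernel
theorem rET2 : Rel (mE * mT2) (mB * mE) := by decide +kernel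
theorem rEB : Rel (mE * mB) (mT2 * mB * mE) := by decide +kernel
theorem rGT : Rel (mG * mT) (mT2 * mG) := by decide +kernel
theorem rGT2 : Rel (mG * mT2) (mT * mG) := by decide +kernel
theorem rZ : Rel (mZ ^ 5) 1 := by decide +kernel
theorem rSZ : Rel (mS * mZ) (mZ ^ 2 * mS) := by decide +kernel

section field

variable (F : Type*) [Field F] [CharP F 3]

/-- the map from `Sp₄(3)` -/
noncomputable def pr : Sp3 →* PSp 2 F :=
  (QuotientGroup.mk' _).comp (LieClassical.SpFourTwo.symplecticMap (ZMod.castHom (dvd_refl 3) F))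

theorem map_coe (A : Sp3) :
    ((LieClassical.SpFourTwo.symplecticMap (ZMod.castHom (dvd_refl 3) F) A :
      Matrix.symplecticGroup (Fin 2) F) : Matrix (Fin 2 ⊕ Fin 2) (Fin 2 ⊕ Fin 2) F) =
      (A : Mat3).map (ZMod.castHom (dvd_refl 3) F) := rfl

theorem pr_eq_iff {A B : Sp3} (h : Rel (A : Mat3) (B : Mat3)) : pr F A = pr F B := by
  change QuotientGroup.mk _ = QuotientGroup.mk _
  rw [QuotientGroup.eq, LieClassical.SympCenter.mem_center_iff]
  rcases h with h | h
  · refine ⟨1, ?_⟩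
    have : A = B := Subtype.ext h
    rw [this, inv_mul_cancel, one_smul]
    rfl
  · refine ⟨-1, ?_⟩
    have h1 : ((A⁻¹ * B : Sp3) : Mat3) = -1 := by
      have h2 : (B : Mat3) = -(A : Mat3) := by rw [h, neg_neg]
      have h3 : ((A⁻¹ : Sp3) : Mat3) * (A : Mat3) = 1 := by
        rw [← Submonoid.coe_mul, inv_mul_cancel]; rfl
      rw [Submonoid.coe_mul, h2, Matrix.mul_neg, h3]
    rw [← map_inv, ← map_mul, map_coe, h1]
    rw [Matrix.map_neg, Matrix.map_one, neg_smul, one_smul]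
    · exact map_zero _
    · exact map_one _
    · exact map_neg _

theorem pr_ne_one {A : Sp3} {i j : Fin 2 ⊕ Fin 2} (hij : i ≠ j) (h : (A : Mat3) i j ≠ 0) : pr F A ≠ 1 := by
  intro h1
  have h2 : LieClassical.SpFourTwo.symplecticMap (ZMod.castHom (dvd_refl 3) F) A ∈
      Subgroup.center (Matrix.symplecticGroup (Fin 2) F) := (QuotientGroup.eq_one_iff _).1 h1
  rw [LieClassical.SympCenter.mem_center_iff] at h2
  obtain ⟨a, ha⟩ := h2
  have h3 := congrFun (congrFun ha i) j
  rw [map_coe, Matrix.map_apply, Matrix.smul_apply, Matrix.one_apply_ne hij, smul_zero] at h3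
  apply h
  exact (map_eq_zero _).1 h3

noncomputable def T : PSp 2 F := pr F eT
noncomputable def T2 : PSp 2 F := pr F eT2
noncomputable def G : PSp 2 F := pr F eG
noncomputable def E : PSp 2 F := pr F eE
noncomputable def B : PSp 2 F := pr F eB
noncomputable def Z : PSp 2 F := pr F eZ
noncomputable def S : PSp 2 F := pr F eS

theorem TT : T F * T F = 1 := by
  rw [T, ← map_mul, ← map_one (pr F)]; exact pr_eq_iff F rT
theorem TT2 : T F * T2 F = T2 F * T F := by
  rw [T, T2, ← map_mul, ← map_mul]; exact pr_eq_iff F rTT2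
theorem TB : T F * B F = B F * T F := by
  rw [T, B, ← map_mul, ← map_mul]; exact pr_eq_iff F rTB
theorem TE : T F * E F = E F * T F := by
  rw [T, E, ← map_mul, ← map_mul]; exact pr_eq_iff F rTE
theorem E3 : E F ^ 3 = 1 := by
  rw [E, ← map_pow, ← map_one (pr F)]; exact pr_eq_iff F rE
theorem T2T2 : T2 F * T2 F = 1 := by
  rw [T2, ← map_mul, ← map_one (pr F)]; exact pr_eq_iff F rT2
theorem T2B : T2 F * B F = B F * T2 F := by
  rw [T2, B, ← map_mul, ← map_mul]; exact pr_eq_iff F rT2B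
theorem BB : B F * B F = 1 := by
  rw [B, ← map_mul, ← map_one (pr F)]; exact pr_eq_iff F rB
theorem ET2 : E F * T2 F = B F * E F := by
  rw [E, T2, B, ← map_mul, ← map_mul]; exact pr_eq_iff F rET2
theorem EB : E F * B F = T2 F * B F * E F := by
  rw [E, T2, B, ← map_mul, ← map_mul, ← map_mul]; exact pr_eq_iff F rEB
theorem GT : G F * T F = T2 F * G F := by
  rw [G, T2, T, ← map_mul, ← map_mul]; exact pr_eq_iff F rGT
theorem GT2 : G F * T2 F = T F * G F := by
  rw [G, T2, T, ← map_mul, ← map_mul]; exact pr_eq_iff F rGT2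
theorem Z5 : Z F ^ 5 = 1 := by
  rw [Z, ← map_pow, ← map_one (pr F)]; exact pr_eq_iff F rZ
theorem SZ : S F * Z F = Z F ^ 2 * S F := by
  rw [S, Z, ← map_pow, ← map_mul, ← map_mul]; exact pr_eq_iff F rSZ

theorem E_ne : E F ≠ 1 := pr_ne_one F (A := eE) (i := Sum.inl 0) (j := Sum.inl 1) (by decide) (by decide +kernel)
theorem Z_ne : Z F ≠ 1 := pr_ne_one F (A := eZ) (i := Sum.inl 0) (j := Sum.inl 1) (by decide) (by decide +kernel)

theorem orderOf_Z : orderOf (Z F) = 5 := by
  have : Fact (Nat.Prime 5) := ⟨by norm_num⟩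
  exact orderOf_eq_prime (Z5 F) (Z_ne F)

theorem TT2_ne : T F * T2 F ≠ 1 := by
  rw [T, T2, ← map_mul]
  intro h1
  have h2 : LieClassical.SpFourTwo.symplecticMap (ZMod.castHom (dvd_refl 3) F) (eT * eT2) ∈
      Subgroup.center (Matrix.symplecticGroup (Fin 2) F) := (QuotientGroup.eq_one_iff _).1 h1
  rw [LieClassical.SympCenter.mem_center_iff] at h2
  obtain ⟨a, ha⟩ := h2
  have h3 := congrFun (congrFun ha (Sum.inl 0)) (Sum.inl 0)
  have h4 := congrFun (congrFun ha (Sum.inl 1)) (Sum.inl 1)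
  rw [map_coe, Matrix.map_apply, Matrix.smul_apply, Matrix.one_apply_eq] at h3 h4
  have h5 := h3.trans h4.symm
  have h6 := (ZMod.castHom (dvd_refl 3) F).injective h5
  revert h6
  decide +kernel

/-! ### elements of order nine -/

variable {F}

/-- the long root elements -/
def mx (a : F) : Matrix (Fin 2 ⊕ Fin 2) (Fin 2 ⊕ Fin 2) F := fromBlocks 1 !![a, 0; 0, 0] 0 1

/-- elements of order nine -/
def mu (c : F) : Matrix (Fin 2 ⊕ Fin 2) (Fin 2 ⊕ Fin 2) F :=
  fromBlocks !![1, 1; 0, 1] !![0, 0; c, -c] 0 !![1, 0; -1, 1]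

omit [CharP F 3] in
theorem mx_mem (a : F) : mx a ∈ Matrix.symplecticGroup (Fin 2) F := by
  rw [mx, SymplecticGroup.fromBlocks_mem_iff]
  refine ⟨?_, ?_, ?_⟩
  · simp
  · ext i j
    fin_cases i <;> fin_cases j <;> simp
  · simp

omit [CharP F 3] in
theorem mu_mem (c : F) : mu c ∈ Matrix.symplecticGroup (Fin 2) F := by
  rw [mu, SymplecticGroup.fromBlocks_mem_iff]
  refine ⟨?_, ?_, ?_⟩
  · simp
  · ext i j
    fin_cases i <;> fin_cases j <;> simp [Matrix.mul_apply, Fin.sum_univ_two]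
  · ext i j
    fin_cases i <;> fin_cases j <;> simp [Matrix.mul_apply, Fin.sum_univ_two]

omit [CharP F 3] in
theorem mx_mul (a b : F) : mx a * mx b = mx (a + b) := by
  rw [mx, mx, mx, fromBlocks_multiply]
  congr 1
  · simp
  · ext i j
    fin_cases i <;> fin_cases j <;> simp [Matrix.one_apply, add_comm]
  · simp
  · simp

omit [CharP F 3] in
theorem mx_mu (a c : F) : mx a * mu c = mu c * mx a := by
  rw [mx, mu, fromBlocks_multiply, fromBlocks_multiply]
  congr 1
  · simp
  · ext i j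
    fin_cases i <;> fin_cases j <;> simp [Matrix.mul_apply, Fin.sum_univ_two, add_comm]
  · simp
  · simp

omit [CharP F 3] in
theorem mu_mul (c : F) : mu c * mu c = fromBlocks !![1, 2; 0, 1] !![c, -c; 3 * c, -(2 * c)] 0 !![1, 0; -2, 1] := by
  rw [mu, fromBlocks_multiply]
  congr 1
  · ext i j
    fin_cases i <;> fin_cases j <;> simp [Matrix.mul_apply, Fin.sum_univ_two] <;> ring
  · ext i j
    fin_cases i <;> fin_cases j <;> simp [Matrix.mul_apply, Fin.sum_univ_two] <;> ring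
  · simp
  · ext i j
    fin_cases i <;> fin_cases j <;> simp [Matrix.mul_apply, Fin.sum_univ_two] <;> ring

theorem mu_cube (c : F) : mu c * mu c * mu c = mx c := by
  have h3 : (3 : F) = 0 := by exact_mod_cast CharP.cast_eq_zero F 3
  rw [mu_mul, mu, mx, fromBlocks_multiply]
  congr 1
  · ext i j
    fin_cases i <;> fin_cases j <;> simp [Matrix.mul_apply, Fin.sum_univ_two]
    linear_combination h3
  · ext i j
    fin_cases i <;> fin_cases j <;> simp [Matrix.mul_apply, Fin.sum_univ_two]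
    · linear_combination c * h3
    · linear_combination (-c) * h3
    · linear_combination (2 * c) * h3
    · linear_combination (-c) * h3
  · simp
  · ext i j
    fin_cases i <;> fin_cases j <;> simp [Matrix.mul_apply, Fin.sum_univ_two]
    linear_combination (-1 : F) * h3

variable (F)

/-- long root elements -/
def X (a : F) : PSp 2 F := QuotientGroup.mk (⟨mx a, mx_mem a⟩ : Matrix.symplecticGroup (Fin 2) F)

/-- elements of order nine -/
def U (c : F) : PSp 2 F := QuotientGroup.mk (⟨mu c, mu_mem c⟩ : Matrix.symplecticGroup (Fin 2) F)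

variable {F}

omit [CharP F 3] in
theorem X_mul (a b : F) : X F a * X F b = X F (a + b) := by
  rw [X, X, X, ← QuotientGroup.mk_mul]
  congr 1
  exact Subtype.ext (mx_mul a b)

omit [CharP F 3] in
theorem X_zero : X F 0 = 1 := by
  have h := X_mul (F := F) 0 0
  rw [add_zero] at h
  exact mul_eq_left.1 h

omit [CharP F 3] in
theorem X_ne {a : F} (ha : a ≠ 0) : X F a ≠ 1 := by
  intro h1
  have h2 : (⟨mx a, mx_mem a⟩ : Matrix.symplecticGroup (Fin 2) F) ∈
      Subgroup.center (Matrix.symplecticGroup (Fin 2) F) := (QuotientGroup.eq_one_iff _).1 h1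
  rw [LieClassical.SympCenter.mem_center_iff] at h2
  obtain ⟨b, hb⟩ := h2
  have h3 := congrFun (congrFun hb (Sum.inl 0)) (Sum.inr 0)
  rw [Matrix.smul_apply, Matrix.one_apply_ne (by decide), smul_zero] at h3
  apply ha
  simpa [mx] using h3

omit [CharP F 3] in
theorem X_U (a c : F) : X F a * U F c = U F c * X F a := by
  rw [X, U, ← QuotientGroup.mk_mul, ← QuotientGroup.mk_mul]
  congr 1
  exact Subtype.ext (mx_mu a c)

theorem U_cube (c : F) : U F c ^ 3 = X F c := by
  rw [pow_succ, pow_two, U, X, ← QuotientGroup.mk_mul, ← QuotientGroup.mk_mul]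
  congr 1
  exact Subtype.ext (mu_cube c)

omit [CharP F 3] in
theorem X_pow (a : F) (k : ℕ) : X F a ^ k = X F (k * a) := by
  induction k with
  | zero => rw [pow_zero, Nat.cast_zero, zero_mul, X_zero]
  | succ k ih => rw [pow_succ, ih, X_mul, Nat.cast_succ, add_mul, one_mul]

theorem X_cube (a : F) : X F a ^ 3 = 1 := by
  have h3 : ((3 : ℕ) : F) = 0 := CharP.cast_eq_zero F 3
  rw [X_pow, h3, zero_mul, X_zero]

theorem U_nine (c : F) : U F c ^ 9 = 1 := by
  rw [show 9 = 3 * 3 by norm_num, pow_mul, U_cube, X_cube]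

end field

end Cfsg.Agent.H374.R.SpData
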