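import Mathlib

/-!
# Modules of `A₆` in characteristic three in which the norms of the elements of order five vanish

An element of order four has no non-zero fixed vector. The certificates write a vector `v` with `x v = v`, `y v = ± v`
(`⟨x, y⟩` a dihedral group of order eight) as a combination of norms of translates of `v`.
-/

set_option autoImplicit false
set_option maxRecDepth 10000
set_option linter.unusedSimpArgs false

namespace Cfsg.Agent.H374.R.SixMod

/-- an explicit permutation -/
def P6 (f g : Fin 6 → Fin 6) (h : (∀ i, g (f i) = i) ∧ (∀ i, f (g i) = i)) : Equiv.Perm (Fin 6) :=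
  ⟨f, g, h.1, h.2⟩

/-- `(0 1 2 3)(4 5)` -/
def x : Equiv.Perm (Fin 6) := P6 ![1, 2, 3, 0, 5, 4] ![3, 0, 1, 2, 5, 4] (by decide)
/-- `(0 2)(4 5)` -/
def y : Equiv.Perm (Fin 6) := P6 ![2, 1, 0, 3, 5, 4] ![2, 1, 0, 3, 5, 4] (by decide)

def w012345 : Equiv.Perm (Fin 6) := P6 ![0, 1, 2, 3, 4, 5] ![0, 1, 2, 3, 4, 5] (by decide)
def w012534 : Equiv.Perm (Fin 6) := P6 ![0, 1, 2, 5, 3, 4] ![0, 1, 2, 4, 5, 3] (by decide)
def w013425 : Equiv.Perm (Fin 6) := P6 ![0, 1, 3, 4, 2, 5] ![0, 1, 4, 2, 3, 5] (by decide)
def w013542 : Equiv.Perm (Fin 6) := P6 ![0, 1, 3, 5, 4, 2] ![0, 1, 5, 2, 4, 3] (by decide)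
def w015324 : Equiv.Perm (Fin 6) := P6 ![0, 1, 5, 3, 2, 4] ![0, 1, 4, 3, 5, 2] (by decide)
def w015432 : Equiv.Perm (Fin 6) := P6 ![0, 1, 5, 4, 3, 2] ![0, 1, 5, 4, 3, 2] (by decide)
def w021354 : Equiv.Perm (Fin 6) := P6 ![0, 2, 1, 3, 5, 4] ![0, 2, 1, 3, 5, 4] (by decide)
def w021435 : Equiv.Perm (Fin 6) := P6 ![0, 2, 1, 4, 3, 5] ![0, 2, 1, 4, 3, 5] (by decide)
def w021543 : Equiv.Perm (Fin 6) := P6 ![0, 2, 1, 5, 4, 3] ![0, 2, 1, 5, 4, 3] (by decide)
def w023451 : Equiv.Perm (Fin 6) := P6 ![0, 2, 3, 4, 5, 1] ![0, 5, 1, 2, 3, 4] (by decide)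
def w023514 : Equiv.Perm (Fin 6) := P6 ![0, 2, 3, 5, 1, 4] ![0, 4, 1, 2, 5, 3] (by decide)
def w024315 : Equiv.Perm (Fin 6) := P6 ![0, 2, 4, 3, 1, 5] ![0, 4, 1, 3, 2, 5] (by decide)
def w024531 : Equiv.Perm (Fin 6) := P6 ![0, 2, 4, 5, 3, 1] ![0, 5, 1, 4, 2, 3] (by decide)
def w025341 : Equiv.Perm (Fin 6) := P6 ![0, 2, 5, 3, 4, 1] ![0, 5, 1, 3, 4, 2] (by decide)
def w025413 : Equiv.Perm (Fin 6) := P6 ![0, 2, 5, 4, 1, 3] ![0, 4, 1, 5, 3, 2] (by decide)
def w031452 : Equiv.Perm (Fin 6) := P6 ![0, 3, 1, 4, 5, 2] ![0, 2, 5, 1, 3, 4] (by decide)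
def w034512 : Equiv.Perm (Fin 6) := P6 ![0, 3, 4, 5, 1, 2] ![0, 4, 5, 1, 2, 3] (by decide)
def w041532 : Equiv.Perm (Fin 6) := P6 ![0, 4, 1, 5, 3, 2] ![0, 2, 5, 4, 1, 3] (by decide)
def w123540 : Equiv.Perm (Fin 6) := P6 ![1, 2, 3, 5, 4, 0] ![5, 0, 1, 2, 4, 3] (by decide)
def w124350 : Equiv.Perm (Fin 6) := P6 ![1, 2, 4, 3, 5, 0] ![5, 0, 1, 3, 2, 4] (by decide)
def w125304 : Equiv.Perm (Fin 6) := P6 ![1, 2, 5, 3, 0, 4] ![4, 0, 1, 3, 5, 2] (by decide)
def w125430 : Equiv.Perm (Fin 6) := P6 ![1, 2, 5, 4, 3, 0] ![5, 0, 1, 4, 3, 2] (by decide)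
def w132450 : Equiv.Perm (Fin 6) := P6 ![1, 3, 2, 4, 5, 0] ![5, 0, 2, 1, 3, 4] (by decide)
def w132504 : Equiv.Perm (Fin 6) := P6 ![1, 3, 2, 5, 0, 4] ![4, 0, 2, 1, 5, 3] (by decide)
def w134205 : Equiv.Perm (Fin 6) := P6 ![1, 3, 4, 2, 0, 5] ![4, 0, 3, 1, 2, 5] (by decide)
def w135240 : Equiv.Perm (Fin 6) := P6 ![1, 3, 5, 2, 4, 0] ![5, 0, 3, 1, 4, 2] (by decide)
def w140235 : Equiv.Perm (Fin 6) := P6 ![1, 4, 0, 2, 3, 5] ![2, 0, 3, 4, 1, 5] (by decide)
def w140352 : Equiv.Perm (Fin 6) := P6 ![1, 4, 0, 3, 5, 2] ![2, 0, 5, 3, 1, 4] (by decide)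
def w143502 : Equiv.Perm (Fin 6) := P6 ![1, 4, 3, 5, 0, 2] ![4, 0, 5, 2, 1, 3] (by decide)
def w150243 : Equiv.Perm (Fin 6) := P6 ![1, 5, 0, 2, 4, 3] ![2, 0, 3, 5, 4, 1] (by decide)
def w153042 : Equiv.Perm (Fin 6) := P6 ![1, 5, 3, 0, 4, 2] ![3, 0, 5, 2, 4, 1] (by decide)
def w213450 : Equiv.Perm (Fin 6) := P6 ![2, 1, 3, 4, 5, 0] ![5, 1, 0, 2, 3, 4] (by decide)
def w214530 : Equiv.Perm (Fin 6) := P6 ![2, 1, 4, 5, 3, 0] ![5, 1, 0, 4, 2, 3] (by decide)
def w243510 : Equiv.Perm (Fin 6) := P6 ![2, 4, 3, 5, 1, 0] ![5, 4, 0, 2, 1, 3] (by decide)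

variable {V : Type*} [AddCommGroup V] (r : Equiv.Perm (Fin 6) → V)

/-- the certificate, sign `+` -/
theorem cert_plus (hz : ∀ v : V, (3 : ℤ) • v = 0) (hx : ∀ g, r (g * x) = r g) (hy : ∀ g, r (g * y) = r g)
    (hN : ∀ b g : Equiv.Perm (Fin 6), b * (b * (b * (b * b))) = 1 → b ≠ 1 →
      r g + r (b * g) + r (b * (b * g)) + r (b * (b * (b * g))) + r (b * (b * (b * (b * g)))) = 0) : r w012345 = 0 := by
  have h0 := hN w124350 w023451 (by decide) (by decide)
  rw [show w124350 * (w124350 * (w124350 * (w124350 * w023451))) = w132504 * (x * (x * x)) from by decide] at h0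
  rw [show w124350 * (w124350 * (w124350 * w023451)) = w031452 * (x * (x * x)) from by decide] at h0
  rw [show w124350 * (w124350 * w023451) = w025341 * x from by decide] at h0
  rw [show w124350 * w023451 = w143502 from by decide] at h0
  simp only [← mul_assoc, hx, hy] at h0
  have h1 := hN w135240 w015324 (by decide) (by decide)
  rw [show w135240 * (w135240 * (w135240 * (w135240 * w015324))) = w021543 * (x * (x * x)) from by decide] at h1
  rw [show w135240 * (w135240 * (w135240 * w015324)) = w025341 * x from by decide] at h1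
  rw [show w135240 * (w135240 * w015324) = w123540 * y from by decide] at h1
  rw [show w135240 * w015324 = w021354 * (x * x) from by decide] at h1
  simp only [← mul_assoc, hx, hy] at h1
  have h2 := hN w123540 w012345 (by decide) (by decide)
  rw [show w123540 * (w123540 * (w123540 * (w123540 * w012345))) = w012534 * (x * (x * x)) from by decide] at h2
  rw [show w123540 * (w123540 * (w123540 * w012345)) = w013542 * (x * x) from by decide] at h2
  rw [show w123540 * (w123540 * w012345) = w023514 * x from by decide] at h2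
  rw [show w123540 * w012345 = w123540 from by decide] at h2
  simp only [← mul_assoc, hx, hy] at h2
  have h3 := hN w153042 w013542 (by decide) (by decide)
  rw [show w153042 * (w153042 * (w153042 * (w153042 * w013542))) = w021354 * (x * (x * x)) from by decide] at h3
  rw [show w153042 * (w153042 * (w153042 * w013542)) = w023514 * x from by decide] at h3
  rw [show w153042 * (w153042 * w013542) = w125304 * y from by decide] at h3
  rw [show w153042 * w013542 = w021543 * (x * x) from by decide] at h3
  simp only [← mul_assoc, hx, hy] at h3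
  have h4 := hN w214530 w012345 (by decide) (by decide)
  rw [show w214530 * (w214530 * (w214530 * (w214530 * w012345))) = w015432 * y from by decide] at h4
  rw [show w214530 * (w214530 * (w214530 * w012345)) = w132504 * (x * (x * (x * y))) from by decide] at h4
  rw [show w214530 * (w214530 * w012345) = w031452 * (x * y) from by decide] at h4
  rw [show w214530 * w012345 = w125430 * (x * (x * (x * y))) from by decide] at h4
  simp only [← mul_assoc, hx, hy] at h4
  have h5 := hN w213450 w012534 (by decide) (by decide)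
  rw [show w213450 * (w213450 * (w213450 * (w213450 * w012534))) = w015432 * y from by decide] at h5
  rw [show w213450 * (w213450 * (w213450 * w012534)) = w143502 * (x * (x * (x * y))) from by decide] at h5
  rw [show w213450 * (w213450 * w012534) = w132450 * (x * (x * (x * y))) from by decide] at h5
  rw [show w213450 * w012534 = w021354 * x from by decide] at h5
  simp only [← mul_assoc, hx, hy] at h5
  have h6 := hN w134205 w021543 (by decide) (by decide)
  rw [show w134205 * (w134205 * (w134205 * (w134205 * w021543))) = w034512 * y from by decide] at h6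
  rw [show w134205 * (w134205 * (w134205 * w021543)) = w125430 * (x * (x * (x * y))) from by decide] at h6
  rw [show w134205 * (w134205 * w021543) = w025341 * (x * (x * x)) from by decide] at h6
  rw [show w134205 * w021543 = w143502 from by decide] at h6
  simp only [← mul_assoc, hx, hy] at h6
  have h7 := hN w140352 w015324 (by decide) (by decide)
  rw [show w140352 * (w140352 * (w140352 * (w140352 * w015324))) = w023451 * (x * (x * (x * y))) from by decide] at h7
  rw [show w140352 * (w140352 * (w140352 * w015324)) = w125304 * y from by decide] at h7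
  rw [show w140352 * (w140352 * w015324) = w034512 * (x * x) from by decide] at h7
  rw [show w140352 * w015324 = w132450 * (x * (x * y)) from by decide] at h7
  simp only [← mul_assoc, hx, hy] at h7
  linear_combination (norm := module) (1 : ℤ) • h0 + (1 : ℤ) • h1 + (-1 : ℤ) • h2 + (1 : ℤ) • h3 + (-1 : ℤ) • h4 + (1 : ℤ) • h5 + (1 : ℤ) • h6 + (-1 : ℤ) • h7 + (-1 : ℤ) • hz (r w143502) + (-1 : ℤ) • hz (r w025341) + (-1 : ℤ) • hz (r w021354) + (-1 : ℤ) • hz (r w021543) + (1 : ℤ) • hz (r w012345)

/-- the certificate, sign `-` -/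
theorem cert_minus (hz : ∀ v : V, (3 : ℤ) • v = 0) (hx : ∀ g, r (g * x) = r g) (hy : ∀ g, r (g * y) = -r g)
    (hN : ∀ b g : Equiv.Perm (Fin 6), b * (b * (b * (b * b))) = 1 → b ≠ 1 →
      r g + r (b * g) + r (b * (b * g)) + r (b * (b * (b * g))) + r (b * (b * (b * (b * g)))) = 0) : r w012345 = 0 := by
  have h0 := hN w024531 w012345 (by decide) (by decide)
  rw [show w024531 * (w024531 * (w024531 * (w024531 * w012345))) = w041532 * (x * (x * y)) from by decide] at h0
  rw [show w024531 * (w024531 * (w024531 * w012345)) = w025341 * (x * (x * y)) from by decide] at h0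
  rw [show w024531 * (w024531 * w012345) = w013425 * (x * (x * y)) from by decide] at h0
  rw [show w024531 * w012345 = w024531 from by decide] at h0
  simp only [← mul_assoc, hx, hy] at h0
  have h1 := hN w140235 w012345 (by decide) (by decide)
  rw [show w140235 * (w140235 * (w140235 * (w140235 * w012345))) = w024315 * (x * (x * (x * y))) from by decide] at h1
  rw [show w140235 * (w140235 * (w140235 * w012345)) = w132450 * x from by decide] at h1
  rw [show w140235 * (w140235 * w012345) = w013425 * (x * y) from by decide] at h1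
  rw [show w140235 * w012345 = w021435 * (x * x) from by decide] at h1
  simp only [← mul_assoc, hx, hy] at h1
  have h2 := hN w150243 w012345 (by decide) (by decide)
  rw [show w150243 * (w150243 * (w150243 * (w150243 * w012345))) = w025341 * (x * (x * (x * y))) from by decide] at h2
  rw [show w150243 * (w150243 * (w150243 * w012345)) = w132504 * x from by decide] at h2
  rw [show w150243 * (w150243 * w012345) = w013542 * (x * y) from by decide] at h2
  rw [show w150243 * w012345 = w021543 * (x * x) from by decide] at h2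
  simp only [← mul_assoc, hx, hy] at h2
  have h3 := hN w132504 w012345 (by decide) (by decide)
  rw [show w132504 * (w132504 * (w132504 * (w132504 * w012345))) = w021435 * (x * (x * x)) from by decide] at h3
  rw [show w132504 * (w132504 * (w132504 * w012345)) = w024531 * (x * y) from by decide] at h3
  rw [show w132504 * (w132504 * w012345) = w243510 * (x * x) from by decide] at h3
  rw [show w132504 * w012345 = w132504 from by decide] at h3
  simp only [← mul_assoc, hx, hy] at h3
  have h4 := hN w025413 w012345 (by decide) (by decide)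
  rw [show w025413 * (w025413 * (w025413 * (w025413 * w012345))) = w041532 from by decide] at h4
  rw [show w025413 * (w025413 * (w025413 * w012345)) = w024315 * (x * (x * y)) from by decide] at h4
  rw [show w025413 * (w025413 * w012345) = w013542 * (x * (x * y)) from by decide] at h4
  rw [show w025413 * w012345 = w025413 from by decide] at h4
  simp only [← mul_assoc, hx, hy] at h4
  have h5 := hN w132450 w012345 (by decide) (by decide)
  rw [show w132450 * (w132450 * (w132450 * (w132450 * w012345))) = w021543 * (x * (x * x)) from by decide] at h5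
  rw [show w132450 * (w132450 * (w132450 * w012345)) = w025413 * (x * y) from by decide] at h5
  rw [show w132450 * (w132450 * w012345) = w243510 * y from by decide] at h5
  rw [show w132450 * w012345 = w132450 from by decide] at h5
  simp only [← mul_assoc, hx, hy] at h5
  linear_combination (norm := module) (-1 : ℤ) • h0 + (1 : ℤ) • h1 + (1 : ℤ) • h2 + (-1 : ℤ) • h3 + (-1 : ℤ) • h4 + (-1 : ℤ) • h5 + (1 : ℤ) • hz (r w012345)


/-- **An element of order four has no non-zero fixed vector.** -/
theorem fixed_eq_zero (hz : ∀ v : V, (3 : ℤ) • v = 0) (hx : ∀ g, r (g * x) = r g)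
    (hN : ∀ b g : Equiv.Perm (Fin 6), b * (b * (b * (b * b))) = 1 → b ≠ 1 →
      r g + r (b * g) + r (b * (b * g)) + r (b * (b * (b * g))) + r (b * (b * (b * (b * g)))) = 0) : r 1 = 0 := by
  have hxy : ∀ g, r (g * x * y) = r (g * y) := by
    intro g
    have h1 : x * y = y * (x * (x * x)) := by decide
    rw [mul_assoc, h1, ← mul_assoc, ← mul_assoc, ← mul_assoc, hx, hx, hx]
  have hyy : ∀ g, r (g * y * y) = r g := by
    intro g
    have h1 : y * y = 1 := by decide
    rw [mul_assoc, h1, mul_one]
  have h1 : (w012345 : Equiv.Perm (Fin 6)) = 1 := by decide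
  have hp := cert_plus (fun g => r g + r (g * y)) hz (by
    intro g
    simp only [hx, hxy]) (by
    intro g
    simp only [hyy]
    rw [add_comm]) (by
    intro b g hb hb1
    have h2 := hN b g hb hb1
    have h3 := hN b (g * y) hb hb1
    simp only [mul_assoc]
    linear_combination (norm := module) (1 : ℤ) • h2 + (1 : ℤ) • h3)
  have hm := cert_minus (fun g => r g - r (g * y)) hz (by
    intro g
    simp only [hx, hxy]) (by
    intro g
    simp only [hyy]
    rw [neg_sub]) (by
    intro b g hb hb1
    have h2 := hN b g hb hb1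
    have h3 := hN b (g * y) hb hb1
    simp only [mul_assoc]
    linear_combination (norm := module) (1 : ℤ) • h2 - (1 : ℤ) • h3)
  simp only [h1, one_mul] at hp hm
  linear_combination (norm := module) (-1 : ℤ) • hp + (-1 : ℤ) • hm + (1 : ℤ) • hz (r 1)

end Cfsg.Agent.H374.R.SixMod
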