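import Mathlib
import Cfsg.Agent.H374.R.Arith
import Cfsg.Agent.H374.R.SixMod
import Cfsg.Agent.H374.R.CaseSp
import Cfsg.Agent.ClassicalGeometry.PSL2Basic
import Cfsg.Agent.S0254
import Cfsg.Agent.S2475

/-!
# Data on `PSL₂(q²)`, `q = 3 ^ n`, `n` odd: order, spectrum, a subgroup `A₆`, elements of order four
-/

set_option autoImplicit false

namespace Cfsg.Agent.H374.R.LData

open Subgroup Cfsg Cfsg.Agent

section six
open Equiv.Perm

theorem sign_x : sign SixMod.x = 1 := by decide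

theorem cycleType_eq {u : Equiv.Perm (Fin 6)} (hs : sign u = 1) (ho : orderOf u = 4) : u.cycleType = {4, 2} := by
  have hl : u.cycleType.lcm = 4 := by rw [lcm_cycleType, ho]
  have hsum : u.cycleType.sum ≤ 6 := by
    rw [sum_cycleType]
    have := Finset.card_le_univ u.support
    rwa [Fintype.card_fin] at this
  have h2 : ∀ k ∈ u.cycleType, 2 ≤ k := fun k hk => two_le_of_mem_cycleType hk
  have hd : ∀ k ∈ u.cycleType, k ∣ 4 := fun k hk => by rw [← hl]; exact Multiset.dvd_lcm hk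
  have hsg : (-1 : ℤˣ) ^ (u.cycleType.sum + Multiset.card u.cycleType) = 1 := by rw [← sign_of_cycleType, hs]
  generalize u.cycleType = m at hl hsum h2 hd hsg
  have h4 : 4 ∈ m := by
    by_contra hcon
    have h5 : m.lcm ∣ 2 := by
      apply Multiset.lcm_dvd.2
      intro k hk
      have h6 := hd k hk
      have h7 := h2 k hk
      have h8 := Nat.le_of_dvd (by norm_num) h6
      have h9 : k ≠ 4 := by rintro rfl; exact hcon hk
      have : k = 2 ∨ k = 3 := by omega
      rcases this with rfl | rfl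
      · exact dvd_rfl
      · omega
    rw [hl] at h5
    omega
  obtain ⟨m', rfl⟩ := Multiset.exists_cons_of_mem h4
  rw [Multiset.sum_cons] at hsum
  have h2' : ∀ k ∈ m', 2 ≤ k := fun k hk => h2 k (Multiset.mem_cons_of_mem hk)
  rcases Multiset.empty_or_exists_mem m' with rfl | ⟨k, hk⟩
  · exfalso
    simp at hsg
    exact absurd hsg (by decide)
  · obtain ⟨m'', rfl⟩ := Multiset.exists_cons_of_mem hk
    rw [Multiset.sum_cons] at hsum
    have h2k := h2' k hk
    have h0 : m'' = 0 := by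
      by_contra hne
      obtain ⟨j, hj⟩ := Multiset.exists_mem_of_ne_zero hne
      have h5 := h2' j (Multiset.mem_cons_of_mem hj)
      have h6 := Multiset.single_le_sum (fun i _ => Nat.zero_le i) j hj
      omega
    have hk2 : k = 2 := by omega
    rw [h0, hk2]
    rfl

theorem orderOf_x : orderOf SixMod.x = 4 := by
  have : Fact (Nat.Prime 2) := ⟨Nat.prime_two⟩
  have := orderOf_eq_prime_pow (p := 2) (n := 1) (x := SixMod.x) (by decide) (by decide)
  simpa using this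

/-- the elements of order four of `A₆` are conjugate -/
theorem conj_x {u : Equiv.Perm (Fin 6)} (hs : sign u = 1) (ho : orderOf u = 4) :
    ∃ g : Equiv.Perm (Fin 6), sign g = 1 ∧ g * u * g⁻¹ = SixMod.x := by
  have h1 : IsConj u SixMod.x := by
    rw [isConj_iff_cycleType_eq, cycleType_eq hs ho, cycleType_eq sign_x orderOf_x]
  obtain ⟨g, hg⟩ := isConj_iff.1 h1
  rcases Int.units_eq_one_or (sign g) with h | h
  · exact ⟨g, h, hg⟩
  · refine ⟨SixMod.P6 ![1, 2, 3, 0, 4, 5] ![3, 0, 1, 2, 4, 5] (by decide) * g, ?_, ?_⟩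
    · rw [Equiv.Perm.sign_mul, h]
      decide
    · rw [mul_inv_rev]
      calc SixMod.P6 ![1, 2, 3, 0, 4, 5] ![3, 0, 1, 2, 4, 5] (by decide) * g * u *
            (g⁻¹ * (SixMod.P6 ![1, 2, 3, 0, 4, 5] ![3, 0, 1, 2, 4, 5] (by decide))⁻¹)
          = SixMod.P6 ![1, 2, 3, 0, 4, 5] ![3, 0, 1, 2, 4, 5] (by decide) * (g * u * g⁻¹) *
            (SixMod.P6 ![1, 2, 3, 0, 4, 5] ![3, 0, 1, 2, 4, 5] (by decide))⁻¹ := by group
        _ = SixMod.x := by rw [hg]; decide

end six

section sylow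

/-- `p`-elements are conjugate into a subgroup containing a Sylow subgroup -/
theorem exists_conj {A S : Type*} [Group A] [Finite A] [Group S] [Finite S] (ψ : A →* S)
    (hψ : Function.Injective ψ) {p : ℕ} [hp : Fact p.Prime]
    (h : (Nat.card S).factorization p = (Nat.card A).factorization p) {c : S} {k : ℕ} (hc : orderOf c = p ^ k) :
    ∃ (s : S) (a : A), s * c * s⁻¹ = ψ a := by
  let P : Sylow p A := default
  have hcP : Nat.card ((P : Subgroup A).map ψ) = p ^ (Nat.card S).factorization p := by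
    rw [Subgroup.card_map_of_injective hψ, h]
    exact P.card_eq_multiplicity
  let P0 : Sylow p S := Sylow.ofCard ((P : Subgroup A).map ψ) hcP
  have hcoe : (P0 : Subgroup S) = (P : Subgroup A).map ψ := Sylow.coe_ofCard _ _
  have hpg : IsPGroup p (zpowers c) := by
    rw [IsPGroup.iff_card]
    exact ⟨k, by rw [Nat.card_zpowers, hc]⟩
  obtain ⟨P1, hP1⟩ := hpg.exists_le_sylow
  obtain ⟨g, hg⟩ := MulAction.exists_smul_eq S P1 P0
  have h1 : g * c * g⁻¹ ∈ (P0 : Subgroup S) := by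
    rw [← hg]
    exact Subgroup.smul_mem_pointwise_smul c (MulAut.conj g) (P1 : Subgroup S) (hP1 (mem_zpowers c))
  rw [hcoe] at h1
  obtain ⟨a, -, ha⟩ := h1
  exact ⟨g, a, ha.symm⟩

end sylow

section psl

variable {F : Type} [Field F] [Fintype F] {n : ℕ}

local notation "PSL2" => Matrix.ProjectiveSpecialLinearGroup (Fin 2) F

theorem card_psl (hQ : Q n (3 ^ n) (M n)) (hF : Fintype.card F = 3 ^ n * 3 ^ n) :
    Nat.card PSL2 = M n * (3 ^ n * 3 ^ n * (3 ^ n * 3 ^ n - 1)) := by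
  have hM := hQ.hM
  have h16 := hQ.sq16
  have h1 := ClassicalGeometry.PSL2Basic.card_PSL2_odd (F := F) (by
    rw [hF, Nat.odd_iff]; omega)
  rw [hF] at h1
  have h2 : (3 ^ n * 3 ^ n) ^ 2 - 1 = (3 ^ n * 3 ^ n - 1) * (2 * M n) := by
    rw [hM]
    obtain ⟨a, ha⟩ : ∃ a, 3 ^ n * 3 ^ n = a + 1 := ⟨3 ^ n * 3 ^ n - 1, by omega⟩
    rw [ha, Nat.add_sub_cancel]
    have : (a + 1) ^ 2 = a * (a + 1 + 1) + 1 := by ring
    omega
  rw [h2] at h1
  apply Nat.eq_of_mul_eq_mul_right (by norm_num : 0 < 2)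
  rw [h1]; ring

theorem coprime (hQ : Q n (3 ^ n) (M n)) : (M n).Coprime (3 ^ n * 3 ^ n * (3 ^ n * 3 ^ n - 1)) := by
  refine Nat.Coprime.mul_right ?_ hQ.coprime_sq
  rw [← pow_two, ← pow_mul]
  apply Nat.Coprime.pow_right
  rw [Nat.coprime_comm]
  exact (Nat.Prime.coprime_iff_not_dvd Nat.prime_three).2 hQ.not_three

theorem factorization_eight {m : ℕ} (hm : m % 16 = 8) : m.factorization 2 = 3 := by
  have h1 : m = 2 ^ 3 * (m / 8) := by omega
  have h2 : ¬ 2 ∣ m / 8 := by omega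
  have h3 : m / 8 ≠ 0 := by omega
  rw [h1, Nat.factorization_mul (by norm_num) h3, Finsupp.coe_add, Pi.add_apply,
    Nat.factorization_eq_zero_of_not_dvd h2, Nat.Prime.factorization_pow Nat.prime_two]
  simp

theorem fact_two (hQ : Q n (3 ^ n) (M n)) (hF : Fintype.card F = 3 ^ n * 3 ^ n) :
    (Nat.card PSL2).factorization 2 = 3 := by
  apply factorization_eight
  rw [card_psl hQ hF]
  have h1 := hQ.sq16
  have h2 := hQ.odd
  generalize M n = m at *
  generalize 3 ^ n * 3 ^ n = P at *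
  have h3 : (P - 1) % 16 = 8 := by omega
  rw [Nat.mul_mod, Nat.mul_mod P, h1, h3]
  have h4 : m % 16 = 5 ∨ m % 16 = 13 := by omega
  rcases h4 with h4 | h4 <;> rw [h4]

theorem spec (hQ : Q n (3 ^ n) (M n)) (hF : Fintype.card F = 3 ^ n * 3 ^ n) (c : PSL2) :
    orderOf c ∣ 3 ∨ orderOf c ∣ (3 ^ n * 3 ^ n - 1) / 2 ∨ orderOf c ∣ M n := by
  have : Fact (Nat.Prime 3) := ⟨Nat.prime_three⟩
  have hch : CharP F 3 := CaseSp.charP_three (m := n + n) (by rw [hF, pow_add])
  have hbig := hQ.big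
  have hM := hQ.hM
  have h1 := S2475.result (F := F) 3 (by rw [hF]; nlinarith)
  have h2 : orderOf c ∈ Set.range (orderOf : PSL2 → ℕ) := ⟨c, rfl⟩
  rw [h1, Set.mem_ofPred_eq, hF] at h2
  have h3 : Nat.gcd 2 (3 ^ n * 3 ^ n - 1) = 2 := Nat.gcd_eq_left (by omega)
  rw [h3] at h2
  exact h2

/-- orders divisible by three -/
theorem spec_three (hQ : Q n (3 ^ n) (M n)) (hF : Fintype.card F = 3 ^ n * 3 ^ n) (c : PSL2) (h : 3 ∣ orderOf c) :
    orderOf c = 3 := by
  have h3 := hQ.three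
  have hM := hQ.hM
  obtain ⟨a, ha⟩ := h3
  have h16 := hQ.sq16
  have h9 : 3 ∣ 3 ^ n * 3 ^ n := Dvd.dvd.mul_right ⟨a, ha⟩ _
  rcases spec hQ hF c with h1 | h1 | h1
  · exact Nat.dvd_antisymm h1 h
  · exfalso
    have := h.trans h1
    generalize 3 ^ n * 3 ^ n = P at *
    omega
  · exact absurd (h.trans h1) hQ.not_three

theorem exists_psi (hF : Fintype.card F = 3 ^ n * 3 ^ n) :
    ∃ ψ : alternatingGroup (Fin 6) →* PSL2, Function.Injective ψ := by
  have : Fact (Nat.Prime 3) := ⟨Nat.prime_three⟩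
  let L := GaloisField 3 2
  have : Fintype L := Fintype.ofFinite L
  have hL : Fintype.card L = 9 := by
    rw [← Nat.card_eq_fintype_card, GaloisField.card 3 2 (by norm_num)]
    norm_num
  obtain ⟨e⟩ := S0254.result (F := L) hL
  obtain ⟨f⟩ := ClassicalGeometry.PSL2Basic.exists_ringHom_of_card_pow (K := L) (L := F) (m := n) (by
    rw [hL, hF, ← mul_pow]; norm_num)
  refine ⟨(ClassicalGeometry.PSL2Basic.pslMap f).comp e.symm.toMonoidHom, ?_⟩
  exact (ClassicalGeometry.PSL2Basic.pslMap_injective f).comp e.symm.injective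

theorem card_six : (Nat.card (alternatingGroup (Fin 6))).factorization 2 = 3 := by
  apply factorization_eight
  rw [nat_card_alternatingGroup]
  rw [Nat.card_fin]
  rfl

/-- the element `x` of `A₆` -/
def X : alternatingGroup (Fin 6) := ⟨SixMod.x, Equiv.Perm.mem_alternatingGroup.2 sign_x⟩

/-- the elements of order four are conjugate -/
theorem conj_four (hQ : Q n (3 ^ n) (M n)) (hF : Fintype.card F = 3 ^ n * 3 ^ n)
    {ψ : alternatingGroup (Fin 6) →* PSL2} (hψ : Function.Injective ψ) {c : PSL2} (hc : orderOf c = 4) :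
    ∃ s : PSL2, s * c * s⁻¹ = ψ X := by
  have : Fact (Nat.Prime 2) := ⟨Nat.prime_two⟩
  obtain ⟨s, a, ha⟩ := exists_conj ψ hψ (p := 2) (by rw [fact_two hQ hF, card_six]) (c := c) (k := 2) hc
  have hao : orderOf (a : Equiv.Perm (Fin 6)) = 4 := by
    rw [Subgroup.orderOf_coe, ← orderOf_injective ψ hψ, ← ha]
    have := MulEquiv.orderOf_eq (MulAut.conj s) c
    rw [MulAut.conj_apply] at this
    rw [this, hc]
  obtain ⟨g, hg, hgx⟩ := conj_x (Equiv.Perm.mem_alternatingGroup.1 a.2) hao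
  refine ⟨ψ ⟨g, Equiv.Perm.mem_alternatingGroup.2 hg⟩ * s, ?_⟩
  calc ψ ⟨g, Equiv.Perm.mem_alternatingGroup.2 hg⟩ * s * c * (ψ ⟨g, Equiv.Perm.mem_alternatingGroup.2 hg⟩ * s)⁻¹
      = ψ ⟨g, Equiv.Perm.mem_alternatingGroup.2 hg⟩ * (s * c * s⁻¹) *
        (ψ ⟨g, Equiv.Perm.mem_alternatingGroup.2 hg⟩)⁻¹ := by group
    _ = ψ X := by
      rw [ha, ← map_mul, ← map_inv, ← map_mul]
      congr 1
      exact Subtype.ext hgx

end psl

end Cfsg.Agent.H374.R.LData
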