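import Mathlib
import Cfsg.Agent.H374.R.LData
import Cfsg.Agent.H371.OutPow
import Cfsg.Agent.LFourB.FixQuat

/-!
# Extensions of `PSL₂(q²)` by an outer automorphism, `q = 3 ^ n`, `n` odd, without elements of order eight
-/

set_option autoImplicit false

namespace Cfsg.Agent.H374.R.LOut

open Subgroup Cfsg Cfsg.Agent Matrix
open Cfsg.Agent.ClassicalGeometry.AutPSL.Root
open Cfsg.Agent.ClassicalGeometry.AutPSL.Auto
open Cfsg.Agent.ClassicalGeometry.AutPSL.Main
open Cfsg.Agent.H371.OutTwo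

universe u

/-- the relations of an `A₄ = ⟨a, b, e⟩` -/
structure Rel {H : Type*} [Group H] (a b e : H) : Prop where
  e3 : e ^ 3 = 1
  aa : a * a = 1
  ab : a * b = b * a
  bb : b * b = 1
  ea : e * a = b * e
  eb : e * b = a * b * e
  ne : e ≠ 1

theorem Rel.map {H H' : Type*} [Group H] [Group H'] {a b e : H} (h : Rel a b e) (f : H →* H')
    (hf : Function.Injective f) : Rel (f a) (f b) (f e) where
  e3 := by rw [← map_pow, h.e3, map_one]
  aa := by rw [← map_mul, h.aa, map_one]
  ab := by rw [← map_mul, h.ab, map_mul]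
  bb := by rw [← map_mul, h.bb, map_one]
  ea := by rw [← map_mul, h.ea, map_mul]
  eb := by rw [← map_mul, h.eb, map_mul, map_mul]
  ne := fun h1 => h.ne (hf (h1.trans (map_one f).symm))

section mat
variable {F : Type*} [Field F]

local notation "SL2" => Matrix.SpecialLinearGroup (Fin 2) F
local notation "PSL2" => Matrix.ProjectiveSpecialLinearGroup (Fin 2) F

/-- the third element of the four-group -/
def vv (h3 : (3 : F) = 0) : SL2 := ⟨!![-1, -1; -1, 1], by
  rw [Matrix.det_fin_two_of]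
  linear_combination (-1 : F) * h3⟩

theorem pr_eq {x y : SL2} {c : F} (h : (y : Matrix (Fin 2) (Fin 2) F) = c • (x : Matrix (Fin 2) (Fin 2) F)) :
    pr x = pr y := pr_eq_of_smul h

theorem rel (h3 : (3 : F) = 0) : Rel (pr (w : SL2)) (pr (vv h3)) (pr (u : SL2)) where
  e3 := by
    have : CharP F 3 := by
      have hp : Nat.Prime 3 := Nat.prime_three
      obtain ⟨p, hc⟩ := CharP.exists F
      have h1 : p ∣ 3 := (CharP.cast_eq_zero_iff F p 3).1 (by exact_mod_cast h3)
      rcases (Nat.dvd_prime hp).1 h1 with h2 | h2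
      · exact absurd h2 (CharP.char_ne_one F p)
      · rwa [h2] at hc
    exact pr_u_pow
  aa := by
    have := pr_w_pow (F := F)
    rwa [pow_two] at this
  ab := by
    rw [← map_mul, ← map_mul]
    apply pr_eq (c := -1)
    rw [Matrix.SpecialLinearGroup.coe_mul, Matrix.SpecialLinearGroup.coe_mul]
    change (!![-1, -1; -1, 1] : Matrix (Fin 2) (Fin 2) F) * !![0, 1; -1, 0] =
      (-1 : F) • ((!![0, 1; -1, 0] : Matrix (Fin 2) (Fin 2) F) * !![-1, -1; -1, 1])
    rw [Matrix.mul_fin_two, Matrix.mul_fin_two]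
    ext i j
    fin_cases i <;> fin_cases j <;> simp
  bb := by
    rw [← map_mul, ← map_one pr]
    symm
    apply pr_eq (c := -1)
    rw [Matrix.SpecialLinearGroup.coe_mul, Matrix.SpecialLinearGroup.coe_one]
    change (!![-1, -1; -1, 1] : Matrix (Fin 2) (Fin 2) F) * !![-1, -1; -1, 1] = _
    rw [Matrix.mul_fin_two, Matrix.one_fin_two]
    ext i j
    fin_cases i <;> fin_cases j <;> simp <;>
      first | linear_combination h3 | linear_combination -h3 | linear_combination (2 : F) * h3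
  ea := by
    rw [← map_mul, ← map_mul]
    congr 1
    apply Subtype.ext
    rw [Matrix.SpecialLinearGroup.coe_mul, Matrix.SpecialLinearGroup.coe_mul]
    change (!![1, 1; 0, 1] : Matrix (Fin 2) (Fin 2) F) * !![0, 1; -1, 0] =
      ((!![-1, -1; -1, 1] : Matrix (Fin 2) (Fin 2) F) * !![1, 1; 0, 1])
    rw [Matrix.mul_fin_two, Matrix.mul_fin_two]
    ext i j
    fin_cases i <;> fin_cases j <;> simp <;>
      first | linear_combination h3 | linear_combination -h3 | linear_combination (2 : F) * h3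
  eb := by
    rw [← map_mul, ← map_mul, ← map_mul]
    apply pr_eq (c := -1)
    rw [Matrix.SpecialLinearGroup.coe_mul, Matrix.SpecialLinearGroup.coe_mul, Matrix.SpecialLinearGroup.coe_mul]
    change (!![0, 1; -1, 0] : Matrix (Fin 2) (Fin 2) F) * !![-1, -1; -1, 1] * !![1, 1; 0, 1] =
      (-1 : F) • ((!![1, 1; 0, 1] : Matrix (Fin 2) (Fin 2) F) * !![-1, -1; -1, 1])
    rw [Matrix.mul_fin_two, Matrix.mul_fin_two, Matrix.mul_fin_two]
    ext i j
    fin_cases i <;> fin_cases j <;> simp <;>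
      first | linear_combination h3 | linear_combination -h3 | linear_combination (2 : F) * h3
  ne := pr_u_ne

theorem fld_vv (h3 : (3 : F) = 0) (σ : F ≃+* F) : fld σ (vv h3 : SL2) = vv h3 := by
  apply Subtype.ext
  ext i j
  rw [coe_fld_apply]
  change σ ((!![-1, -1; -1, 1] : Matrix (Fin 2) (Fin 2) F) i j) = (!![-1, -1; -1, 1] : Matrix (Fin 2) (Fin 2) F) i j
  fin_cases i <;> fin_cases j <;> simp

/-- `!![1, μ; -μ, 1]` -/
def rot (μ : F) (h : 1 + μ * μ ≠ 0) : GL (Fin 2) F :=
  Matrix.GeneralLinearGroup.mkOfDetNeZero !![1, μ; -μ, 1] (by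
    rw [Matrix.det_fin_two_of]
    convert h using 1
    ring)

theorem rot_val (μ : F) (h : 1 + μ * μ ≠ 0) : (rot μ h : Matrix (Fin 2) (Fin 2) F) = !![1, μ; -μ, 1] := rfl

theorem fld_cj' (τ : F ≃+* F) (A : GL (Fin 2) F) :
    fld τ * cj A = cj (Matrix.GeneralLinearGroup.map (τ : F →+* F) A) * fld τ := by
  apply MulEquiv.ext
  intro x
  apply Subtype.ext
  rw [MulAut.mul_apply, MulAut.mul_apply]
  have hmap : ∀ y : SL2, ((fld τ y : SL2) : Matrix (Fin 2) (Fin 2) F) =
      (y : Matrix (Fin 2) (Fin 2) F).map (τ : F → F) := by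
    intro y
    ext i j
    rw [coe_fld_apply, Matrix.map_apply]
  rw [hmap, coe_cj, coe_cj, hmap, Matrix.map_mul, Matrix.map_mul]
  rfl

/-- the two classes of outer involutions -/
theorem rot_fld (σ : F ≃+* F) {μ : Fˣ} (h : 1 + (μ : F) * μ ≠ 0) (hμ : (μ : F) * σ μ = -1) :
    cj (toGL (w : SL2)) * fld σ * cj (rot (μ : F) h) = cj (rot (μ : F) h) * fld σ := by
  have h1 : rot (μ : F) h = D μ μ * (toGL (w : SL2) * Matrix.GeneralLinearGroup.map (σ : F →+* F) (rot (μ : F) h)) := by
    apply Units.ext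
    rw [Units.val_mul, Units.val_mul, D_val, toGL_val]
    have h2 : ((Matrix.GeneralLinearGroup.map (σ : F →+* F) (rot (μ : F) h) : GL (Fin 2) F) :
        Matrix (Fin 2) (Fin 2) F) = !![1, σ μ; -σ μ, 1] := by
      change (!![1, (μ : F); -(μ : F), 1]).map (σ : F → F) = _
      ext i j
      fin_cases i <;> fin_cases j <;> simp
    rw [h2, rot_val]
    change _ = diagonal ![(μ : F), (μ : F)] * ((!![0, 1; -1, 0] : Matrix (Fin 2) (Fin 2) F) * !![1, σ μ; -σ μ, 1])
    rw [Matrix.mul_fin_two]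
    ext i j
    rw [Matrix.diagonal_mul]
    fin_cases i <;> fin_cases j <;> simp <;> first | linear_combination hμ | linear_combination -hμ
  rw [mul_assoc, fld_cj', ← mul_assoc, ← map_mul]
  congr 1
  conv_rhs => rw [h1, map_mul, cj_D_same, one_mul]

theorem rot_w {μ : F} (h : 1 + μ * μ ≠ 0) : lift (cj (rot μ h)) (pr (w : SL2)) = pr (w : SL2) := by
  rw [lift_pr]
  congr 1
  have h1 : rot μ h * toGL (w : SL2) = toGL (w : SL2) * rot μ h := by
    apply Units.ext
    rw [Units.val_mul, Units.val_mul, toGL_val, rot_val]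
    change (!![1, μ; -μ, 1] : Matrix (Fin 2) (Fin 2) F) * !![0, 1; -1, 0] = !![0, 1; -1, 0] * !![1, μ; -μ, 1]
    rw [Matrix.mul_fin_two, Matrix.mul_fin_two]
    ext i j
    fin_cases i <;> fin_cases j <;> simp
  apply Subtype.ext
  rw [coe_cj]
  have h2 := congrArg (fun g : GL (Fin 2) F => ((g * (rot μ h)⁻¹ : GL (Fin 2) F) : Matrix (Fin 2) (Fin 2) F)) h1
  simp only [mul_assoc, mul_inv_cancel, mul_one] at h2
  rw [Units.val_mul, Units.val_mul, toGL_val] at h2
  rw [Matrix.mul_assoc]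
  exact h2

end mat

end Cfsg.Agent.H374.R.LOut
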