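import Mathlib
import Cfsg.Agent.H374.R.LOut

/-!
# Extensions of `PSL₂(q²)` by an outer automorphism: the outer involutions
-/

set_option autoImplicit false

namespace Cfsg.Agent.H374.R.LOut

open Subgroup Cfsg Cfsg.Agent Matrix
open Cfsg.Agent.ClassicalGeometry.AutPSL.Root
open Cfsg.Agent.ClassicalGeometry.AutPSL.Auto
open Cfsg.Agent.ClassicalGeometry.AutPSL.Main
open Cfsg.Agent.H371.OutTwo

universe u

section T
variable {H : Type*} [Group H] {P : Type*} [Group P] {S : Subgroup H} [S.Normal] (e : S ≃* P)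

/-- the action of `H` on `P ≅ S` -/
def T : H →* MulAut P := (MulAut.congr e).toMonoidHom.comp (MulAut.conjNormal : H →* MulAut S)

/-- the embedding of `P` -/
def ι : P →* H := S.subtype.comp e.symm.toMonoidHom

omit [S.Normal] in
theorem ι_mem (x : P) : ι e x ∈ S := (e.symm x).2

omit [S.Normal] in
theorem ι_apply (x : P) : ι e x = (e.symm x : H) := rfl

omit [S.Normal] in
theorem ι_injective : Function.Injective (ι e) := fun _ _ h => e.symm.injective (Subtype.ext h)

theorem T_apply (h : H) (x : P) : ι e (T e h x) = h * ι e x * h⁻¹ := by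
  change ((e.symm (e (MulAut.conjNormal h (e.symm x))) : S) : H) = _
  rw [MulEquiv.symm_apply_apply, MulAut.conjNormal_apply]
  rfl

theorem T_ι (y : P) : T e (ι e y) = MulAut.conj y := by
  apply MulEquiv.ext
  intro x
  apply ι_injective e
  rw [T_apply, MulAut.conj_apply, map_mul, map_mul, map_inv]

theorem T_injective (hC : centralizer (S : Set H) = ⊥) : Function.Injective (T e) := by
  rw [injective_iff_map_eq_one]
  intro h hh
  have h1 : h ∈ centralizer (S : Set H) := by
    rw [mem_centralizer_iff]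
    intro s hs
    have h2 := T_apply e h (e ⟨s, hs⟩)
    rw [hh, MulAut.one_apply, ι_apply, MulEquiv.symm_apply_apply] at h2
    change s = h * s * h⁻¹ at h2
    exact eq_mul_inv_iff_mul_eq.1 h2
  rw [hC, Subgroup.mem_bot] at h1
  exact h1

theorem T_mem (hC : centralizer (S : Set H) = ⊥) {h : H} {y : P} (hy : T e h = MulAut.conj y) : h ∈ S := by
  rw [T_injective e hC (hy.trans (T_ι e y).symm)]
  exact ι_mem e y

end T

section main
variable {F : Type} [Field F] [Fintype F] {n : ℕ}

local notation "SL2" => Matrix.SpecialLinearGroup (Fin 2) F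
local notation "PSL2" => Matrix.ProjectiveSpecialLinearGroup (Fin 2) F

/-- **Outer involutions** -/
theorem main (hQ : Q n (3 ^ n) (M n)) (hF : Fintype.card F = 3 ^ n * 3 ^ n) {H : Type u} [Group H] [Finite H]
    (hH : ∀ x : H, W n (orderOf x)) (S : Subgroup H) [S.Normal] (hC : centralizer (S : Set H) = ⊥)
    (e : S ≃* PSL2) (h2 : ∀ x y : H, x ∉ S → y ∉ S → x * y ∈ S) {h : H} (hh : h ∉ S) :
    ∃ t z b e₁ b' e' : H, t ∉ S ∧ z ∈ S ∧ z ≠ 1 ∧ t * t = 1 ∧ t * z = z * t ∧ t * b = b * t ∧ t * e₁ = e₁ * t ∧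
      (t * z) * b' = b' * (t * z) ∧ (t * z) * e' = e' * (t * z) ∧ Rel z b e₁ ∧ Rel z b' e' := by
  classical
  have : Fact (Nat.Prime 3) := ⟨Nat.prime_three⟩
  have hch : CharP F 3 := CaseSp.charP_three (m := n + n) (by rw [hF, pow_add])
  have h30 : (3 : F) = 0 := by exact_mod_cast CharP.cast_eq_zero F 3
  have h20 : (2 : F) ≠ 0 := by
    intro h
    have : (1 : F) = 3 - 2 := by norm_num
    rw [h30, h, sub_zero] at this
    exact one_ne_zero this
  have hM := hQ.hM
  have hbig := hQ.big
  have h16 := hQ.sq16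
  have hmod := hQ.mod
  set q := 3 ^ n with hq
  have hTi := T_injective e hC
  -- the automorphism
  obtain ⟨A, σ, hA⟩ := surj_two 3 (T e h)
  have hσ2 : σ ^ 2 = 1 := by
    have h3 : T e (h * h) = MulAut.conj (e ⟨h * h, h2 h h hh hh⟩) := by
      rw [← T_ι e, ι_apply, MulEquiv.symm_apply_apply]
    obtain ⟨s, hs⟩ := pr_surjective (e ⟨h * h, h2 h h hh hh⟩)
    obtain ⟨B, hB⟩ := cj_fld_pow A σ 2
    rw [map_mul, hA, ← map_mul, ← pow_two, hB, ← hs, ← lift_conj, ← cj_toGL] at h3
    have h4 : lift (cj ((toGL s)⁻¹ * B) * fld (σ ^ 2)) = 1 := by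
      rw [map_mul cj, mul_assoc, map_mul lift, h3, ← map_mul lift, ← map_mul cj, inv_mul_cancel, map_one, map_one]
    exact (eq_one_of_lift h4).2
  -- a generator
  obtain ⟨g, hg⟩ := IsCyclic.exists_generator (α := Fˣ)
  have hgo : orderOf g = q * q - 1 := by
    rw [orderOf_eq_card_of_forall_mem_zpowers hg, Nat.card_units, Nat.card_eq_fintype_card, hF]
  have hdich : ∀ a : Fˣ, (∃ s : Fˣ, a = s ^ 2) ∨ ∃ s : Fˣ, g = a * s ^ 2 := by
    intro a
    obtain ⟨k, hk⟩ := Subgroup.mem_zpowers_iff.1 (hg a)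
    rcases Int.even_or_odd' k with ⟨j, hj | hj⟩
    · left
      exact ⟨g ^ j, by rw [← hk, hj, mul_comm, _root_.zpow_mul, _root_.zpow_ofNat]⟩
    · right
      refine ⟨g ^ (-j), ?_⟩
      rw [← hk, hj, ← _root_.zpow_natCast, ← _root_.zpow_mul, ← _root_.zpow_add]
      have : (2 * j + 1 + -j * ((2 : ℕ) : ℤ)) = 1 := by push_cast; ring
      rw [this, zpow_one]
  -- change of the representative
  have hchange : ∀ (B : GL (Fin 2) F) (s : Fˣ),
      (B : Matrix (Fin 2) (Fin 2) F).det = (A : Matrix (Fin 2) (Fin 2) F).det * (s : F) ^ 2 →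
      ∃ h' : H, h' ∉ S ∧ T e h' = lift (cj B * fld σ) := by
    intro B s hdet
    obtain ⟨x, hx⟩ := exists_inner hdet
    refine ⟨ι e (pr x) * h, ?_, ?_⟩
    · intro hmem
      exact hh ((S.mul_mem_cancel_left (ι_mem e _)).1 hmem)
    · rw [map_mul, T_ι, hA, map_mul lift, ← mul_assoc, ← hx, map_mul lift]
  obtain ⟨a, ha⟩ : ∃ a : Fˣ, (a : F) = (A : Matrix (Fin 2) (Fin 2) F).det :=
    (Matrix.isUnit_iff_isUnit_det _).1 A.isUnit
  by_cases hσ1 : σ = 1
  · -- no field automorphism
    exfalso
    rcases hdich a with ⟨s, hs⟩ | ⟨s, hs⟩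
    · obtain ⟨h', hh', hT⟩ := hchange 1 s⁻¹ (by
        rw [Units.val_one, Matrix.det_one, ← ha, hs, ← Units.val_pow_eq_pow_val, ← Units.val_mul, inv_pow,
          mul_inv_cancel, Units.val_one])
      rw [hσ1, map_one, map_one, mul_one, map_one] at hT
      apply hh'
      rw [hTi (hT.trans (map_one _).symm)]
      exact S.one_mem
    · obtain ⟨h', hh', hT⟩ := hchange (D g 1) s (by
        rw [D_det, ← ha, Units.val_one, mul_one, ← Units.val_pow_eq_pow_val, ← Units.val_mul, ← hs])
      rw [hσ1, map_one, mul_one] at hT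
      have h3 := orderOf_lift_cj (F := F) g
      rw [← hT, orderOf_injective (T e) hTi, hgo] at h3
      have h4 := W.le hQ (hH h')
      rw [h3] at h4
      have : q * q ≥ 27 * 27 := Nat.mul_le_mul hbig hbig
      omega
  -- the field automorphism
  have hσσ : ∀ a, σ (σ a) = a := by
    intro a
    have := congrArg (fun τ : F ≃+* F => τ a) hσ2
    simpa [pow_two] using this
  obtain ⟨q₀, hq₀, hσq⟩ := Cfsg.Agent.LFourB.FixQuat.exists_pow_card σ hσσ (by
    by_contra hcon
    push Not at hcon
    exact hσ1 (RingEquiv.ext hcon))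
  have hqq : q₀ = q := by
    rw [Nat.card_eq_fintype_card, hF, ← pow_two] at hq₀
    exact (Nat.pow_left_injective (n := 2) (by norm_num) hq₀).symm
  rw [hqq] at hσq
  have hsub : (q - 1) * (q + 1) = q * q - 1 := hQ.sub_mul
  rcases hdich a with ⟨s, hs⟩ | ⟨s, hs⟩
  · -- an involution
    obtain ⟨t, ht, hT⟩ := hchange 1 s⁻¹ (by
      rw [Units.val_one, Matrix.det_one, ← ha, hs, ← Units.val_pow_eq_pow_val, ← Units.val_mul, inv_pow,
        mul_inv_cancel, Units.val_one])
    rw [map_one, one_mul] at hT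
    -- the element `μ`
    set μ : Fˣ := g ^ ((q - 1) / 2) with hμ
    have hμ1 : (μ : F) * σ μ = -1 := by
      have e1 : (μ : F) * σ μ = ((g ^ ((q * q - 1) / 2) : Fˣ) : F) := by
        rw [hσq, ← Units.val_pow_eq_pow_val, ← Units.val_mul, hμ, ← pow_mul, ← pow_add]
        congr 2
        obtain ⟨m, hm⟩ : ∃ m, q = 2 * m + 1 := ⟨(q - 1) / 2, by omega⟩
        have e2 : (q - 1) / 2 = m := by omega
        have e3 : q * q = 4 * (m * m) + 4 * m + 1 := by rw [hm]; ring
        have e4 : m + m * q = 2 * (m * m) + 2 * m := by rw [hm]; ring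
        rw [e2]
        omega
      have e5 : ((g ^ ((q * q - 1) / 2) : Fˣ) : F) ^ 2 = 1 := by
        rw [← Units.val_pow_eq_pow_val, ← pow_mul]
        have : (q * q - 1) / 2 * 2 = orderOf g := by rw [hgo]; omega
        rw [this, pow_orderOf_eq_one, Units.val_one]
      have e6 : ((g ^ ((q * q - 1) / 2) : Fˣ) : F) ≠ 1 := by
        intro h6
        have h7 : g ^ ((q * q - 1) / 2) = 1 := Units.ext h6
        have h8 := orderOf_dvd_of_pow_eq_one h7
        rw [hgo] at h8
        have h9 := Nat.le_of_dvd (by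
          have : q * q ≥ 27 * 27 := Nat.mul_le_mul hbig hbig
          omega) h8
        have : q * q ≥ 27 * 27 := Nat.mul_le_mul hbig hbig
        omega
      rw [e1]
      rcases mul_self_eq_one_iff.1 (by rwa [pow_two] at e5) with h | h
      · exact absurd h e6
      · exact h
    have hμ2 : 1 + (μ : F) * μ ≠ 0 := by
      intro h0
      have h3 : (μ : F) * μ = -1 := by linear_combination h0
      obtain ⟨k, hk⟩ : ∃ k, q = 4 * k + 3 := ⟨q / 4, by omega⟩
      have h4 : σ (μ : F) = -μ := by
        rw [hσq, hk, pow_add, pow_mul]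
        have h5 : (μ : F) ^ 4 = 1 := by
          have : (μ : F) ^ 4 = ((μ : F) * μ) * ((μ : F) * μ) := by ring
          rw [this, h3]; ring
        rw [h5, one_pow, one_mul]
        have : (μ : F) ^ 3 = ((μ : F) * μ) * μ := by ring
        rw [this, h3]; ring
      rw [h4] at hμ1
      apply h20
      linear_combination hμ1 + h3
    set G' := rot (μ : F) hμ2 with hG'
    have hrot := rot_fld σ hμ2 hμ1
    -- the elements
    have hz : T e (ι e (pr (w : SL2))) = MulAut.conj (pr (w : SL2)) := T_ι e _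
    have hcomm : ∀ x : SL2, fld σ x = x → t * ι e (pr x) = ι e (pr x) * t := by
      intro x hx
      apply hTi
      rw [map_mul, map_mul, hT, T_ι]
      exact fld_commute hx
    have hTz : T e (t * ι e (pr (w : SL2))) = lift (cj G') * lift (fld σ) * (lift (cj G'))⁻¹ := by
      rw [eq_mul_inv_iff_mul_eq, hcomm _ (fld_w σ), map_mul, hT, T_ι, ← lift_conj, ← cj_toGL, ← map_mul, ← map_mul,
        ← map_mul, hrot]
    have hcomm' : ∀ x : SL2, fld σ x = x → (t * ι e (pr (w : SL2))) * ι e (lift (cj G') (pr x)) =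
        ι e (lift (cj G') (pr x)) * (t * ι e (pr (w : SL2))) := by
      intro x hx
      apply hTi
      rw [map_mul, hTz, map_mul, hTz, T_ι]
      have h3 : MulAut.conj (lift (cj G') (pr x)) = lift (cj G') * MulAut.conj (pr x) * (lift (cj G'))⁻¹ := by
        rw [eq_mul_inv_iff_mul_eq]
        apply MulEquiv.ext
        intro y
        rw [MulAut.mul_apply, MulAut.mul_apply, MulAut.conj_apply, MulAut.conj_apply, map_mul, map_mul, map_inv]
      have h4 := (fld_commute hx).eq
      rw [h3]
      calc lift (cj G') * lift (fld σ) * (lift (cj G'))⁻¹ * (lift (cj G') * MulAut.conj (pr x) * (lift (cj G'))⁻¹)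
          = lift (cj G') * (lift (fld σ) * MulAut.conj (pr x)) * (lift (cj G'))⁻¹ := by group
        _ = lift (cj G') * (MulAut.conj (pr x) * lift (fld σ)) * (lift (cj G'))⁻¹ := by rw [h4]
        _ = _ := by group
    have hrel := rel h30
    refine ⟨t, ι e (pr (w : SL2)), ι e (pr (vv h30)), ι e (pr (u : SL2)), ι e (lift (cj G') (pr (vv h30))),
      ι e (lift (cj G') (pr (u : SL2))), ht, ι_mem e _, ?_, ?_, hcomm _ (fld_w σ), hcomm _ (fld_vv h30 σ),
      hcomm _ (fld_u σ), hcomm' _ (fld_vv h30 σ), hcomm' _ (fld_u σ), hrel.map (ι e) (ι_injective e), ?_⟩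
    · intro h3
      exact pr_w_ne (ι_injective e (h3.trans (map_one _).symm))
    · apply hTi
      rw [map_mul, hT, ← map_mul, ← map_mul, ← pow_two, hσ2, map_one, map_one, map_one]
    · have h3 := hrel.map ((ι e).comp (lift (cj G')).toMonoidHom)
        ((ι_injective e).comp (lift (cj G')).injective)
      have h4 : ((ι e).comp (lift (cj G')).toMonoidHom) (pr (w : SL2)) = ι e (pr (w : SL2)) := by
        change ι e (lift (cj G') (pr (w : SL2))) = _
        rw [rot_w]
      rw [h4] at h3
      exact h3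
  · -- an element of order eight
    exfalso
    obtain ⟨h', hh', hT⟩ := hchange (D g 1 * toGL (w : SL2)) s (by
      rw [Units.val_mul, Matrix.det_mul, D_det, toGL_val]
      have hw : (w : SL2).1.det = 1 := (w : SL2).2
      rw [hw, mul_one, ← ha, Units.val_one, mul_one, ← Units.val_pow_eq_pow_val, ← Units.val_mul, ← hs])
    set g' : Fˣ := Units.map (σ : F →* F) g with hg'
    have hg'q : g' = g ^ q := by
      apply Units.ext
      rw [hg', Units.coe_map, Units.val_pow_eq_pow_val]
      exact hσq g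
    have hwD : ∀ a b : Fˣ, cj (toGL (w : SL2)) * cj (D a b) = cj (D b a) * cj (toGL (w : SL2)) := by
      intro a b
      rw [← map_mul, ← map_mul]
      congr 1
      apply Units.ext
      rw [Units.val_mul, Units.val_mul, toGL_val, D_val, D_val]
      change (!![0, 1; -1, 0] : Matrix (Fin 2) (Fin 2) F) * _ = _ * (!![0, 1; -1, 0] : Matrix (Fin 2) (Fin 2) F)
      ext i j
      rw [Matrix.mul_diagonal, Matrix.diagonal_mul]
      fin_cases i <;> fin_cases j <;> simp
    have hwσ : fld σ * cj (toGL (w : SL2)) = cj (toGL (w : SL2)) * fld σ := by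
      rw [cj_toGL]
      apply MulEquiv.ext
      intro y
      rw [MulAut.mul_apply, MulAut.mul_apply, MulAut.conj_apply, MulAut.conj_apply, map_mul, map_mul, map_inv, fld_w]
    have hww : cj (toGL (w : SL2)) * cj (toGL (w : SL2)) = 1 := by
      rw [← map_mul]
      refine cj_eq_one_of_scalar (r := -1) ?_
      rw [Units.val_mul, toGL_val, ← w_sq]
      rfl
    have hsq : (cj (D g 1 * toGL (w : SL2)) * fld σ) * (cj (D g 1 * toGL (w : SL2)) * fld σ) =
        cj (D (g * g'⁻¹) 1) := by
      rw [map_mul]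
      calc cj (D g 1) * cj (toGL (w : SL2)) * fld σ * (cj (D g 1) * cj (toGL (w : SL2)) * fld σ)
          = cj (D g 1) * cj (toGL (w : SL2)) * (fld σ * cj (D g 1)) * cj (toGL (w : SL2)) * fld σ := by
            simp only [mul_assoc]
        _ = cj (D g 1) * (cj (toGL (w : SL2)) * cj (D g' 1)) * (fld σ * cj (toGL (w : SL2))) * fld σ := by
            rw [fld_cj_D, map_one]
            simp only [mul_assoc]
            rfl
        _ = cj (D g 1) * cj (D 1 g') * (cj (toGL (w : SL2)) * cj (toGL (w : SL2))) * (fld σ * fld σ) := by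
            rw [hwD, hwσ]
            simp only [mul_assoc]
        _ = cj (D (g * g'⁻¹) 1) := by
            rw [hww, mul_one, ← map_mul fld, ← pow_two, hσ2, map_one, mul_one, ← map_mul, D_mul, one_mul, mul_one,
              cj_D]
    have hsqT : T e (h' ^ 2) = lift (cj (D (g * g'⁻¹) 1)) := by
      rw [pow_two, map_mul, hT, ← map_mul, hsq]
    have h3 := orderOf_lift_cj (F := F) (g * g'⁻¹)
    rw [← hsqT, orderOf_injective (T e) hTi] at h3
    -- the order of `g * g'⁻¹`
    have h4 : g * g'⁻¹ = (g ^ (q - 1))⁻¹ := by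
      rw [eq_inv_iff_mul_eq_one, hg'q]
      have : g ^ q = g ^ (q - 1) * g := by rw [← pow_succ]; congr 1; omega
      rw [this, _root_.mul_inv_rev]
      group
    have h5 : orderOf (g * g'⁻¹) = q + 1 := by
      rw [h4, orderOf_inv, orderOf_pow_of_dvd (by omega) (by rw [hgo, ← hsub]; exact Dvd.intro _ rfl), hgo, ← hsub,
        Nat.mul_div_cancel_left _ (by omega)]
    rw [h5] at h3
    have h6 : 4 ∣ orderOf (h' ^ 2) := by rw [h3]; omega
    have h7 : 2 ∣ orderOf h' := ((by norm_num : 2 ∣ 4).trans h6).trans (orderOf_pow_dvd 2)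
    rw [orderOf_pow_of_dvd (by norm_num) h7] at h6
    refine W.not_eight hQ (hH h') ?_
    omega

end main

end Cfsg.Agent.H374.R.LOut
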