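import Mathlib
import Cfsg.Agent.H374.R.Arith
import Cfsg.Agent.H374.SpFour
import Cfsg.Agent.S2475
import Cfsg.Agent.S2476
import Cfsg.Agent.S2238
import Cfsg.Agent.S0280
import Cfsg.Agent.OddCyclic.ClaimC.SzIso
import Cfsg.Agent.ChevalleyStructure.ReeCount
import Cfsg.Agent.ClassicalGeometry.PSL2Basic
import Cfsg.Agent.H127.PSUThreeEx
import Cfsg.Agent.H372.Blk

/-!
# Families of simple groups and the spectrum of `PSp₄(q)`, `q = 3 ^ n`
-/

set_option autoImplicit false

namespace Cfsg.Agent.H374.R.Fam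

open Subgroup Cfsg Cfsg.Agent Matrix

universe u v

variable {n : ℕ}

/-- an element of order `M n`, and all orders in the spectrum -/
structure Hyp (n : ℕ) (S : Type u) [Group S] : Prop where
  ex : ∃ x : S, orderOf x = M n
  all : ∀ x : S, W n (orderOf x)

theorem Hyp.of_equiv {S : Type u} {T : Type v} [Group S] [Group T] (h : Hyp n S) (e : S ≃* T) : Hyp n T := by
  constructor
  · obtain ⟨x, hx⟩ := h.ex
    exact ⟨e x, by rw [MulEquiv.orderOf_eq, hx]⟩
  · intro x
    have := h.all (e.symm x)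
    rwa [MulEquiv.orderOf_eq] at this

theorem dvd_M (hQ : Q n (3 ^ n) (M n)) {m p : ℕ} (h : W n m) (hp : p.Prime) (hpM : p ∣ M n) (hpm : p ∣ m) :
    m ∣ M n := by
  rcases h.cases hQ with h1 | h1
  · exact h1
  · exact absurd (Nat.dvd_one.1 (h1 ▸ Nat.dvd_gcd hpM hpm)) hp.one_lt.ne'

theorem not_fifteen (hQ : Q n (3 ^ n) (M n)) : ¬ W n 15 := by
  intro h
  have h1 := dvd_M hQ h (p := 5) (by norm_num) hQ.five (by norm_num)
  exact hQ.not_three ((by norm_num : 3 ∣ 15).trans h1)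

/-- twice a power of two is not `q² - 1` -/
theorem not_two_pow (hQ : Q n (3 ^ n) (M n)) {k : ℕ} (h : 3 ^ n * 3 ^ n - 1 ∣ 2 ^ k) : False := by
  obtain ⟨s, hs, hs5, hsd, -⟩ := exists_s hQ
  have h1 : s ∣ 2 ^ k := by
    refine (hsd.trans ?_).trans h
    rw [← hQ.sub_mul]
    exact Dvd.intro _ rfl
  have h2 := (Nat.prime_dvd_prime_iff_eq hs Nat.prime_two).1 (hs.dvd_of_dvd_pow h1)
  omega

/-! ### `PSL₂` -/

theorem psl_two (hQ : Q n (3 ^ n) (M n)) {F : Type u} [Field F] [Fintype F]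
    (h : Hyp n (Matrix.ProjectiveSpecialLinearGroup (Fin 2) F)) (h4 : 4 ≤ Fintype.card F) :
    Fintype.card F = 3 ^ n * 3 ^ n := by
  obtain ⟨p, hc⟩ := CharP.exists F
  obtain ⟨k, hp, hcard⟩ := FiniteField.card F p
  have := Fact.mk hp
  have h5 := Cfsg.Agent.S2475.result (F := F) p h4
  have hbig := hQ.big_M
  have hq := hQ.big
  have hM := hQ.hM
  have hodd := hQ.odd
  have key : ∀ m : ℕ, (m ∣ p ∨ m ∣ (Fintype.card F - 1) / Nat.gcd 2 (Fintype.card F - 1) ∨
      m ∣ (Fintype.card F + 1) / Nat.gcd 2 (Fintype.card F - 1)) → W n m := by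
    intro m hm
    have h6 : m ∈ Set.range (orderOf : Matrix.ProjectiveSpecialLinearGroup (Fin 2) F → ℕ) := by
      rw [h5]
      exact hm
    obtain ⟨x, hx⟩ := h6
    rw [← hx]; exact h.all x
  have hex : M n ∣ p ∨ M n ∣ (Fintype.card F - 1) / Nat.gcd 2 (Fintype.card F - 1) ∨
      M n ∣ (Fintype.card F + 1) / Nat.gcd 2 (Fintype.card F - 1) := by
    have h6 : M n ∈ Set.range (orderOf : Matrix.ProjectiveSpecialLinearGroup (Fin 2) F → ℕ) := h.ex
    rw [h5] at h6
    exact h6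
  have hplus := (key _ (Or.inr (Or.inr dvd_rfl))).le hQ
  rcases Nat.even_or_odd (Fintype.card F) with he | ho
  · exfalso
    have hg : Nat.gcd 2 (Fintype.card F - 1) = 1 := by
      have : Nat.Coprime 2 (Fintype.card F - 1) := by
        rw [Nat.coprime_two_left, Nat.odd_iff]
        rw [Nat.even_iff] at he
        omega
      exact this
    have hp2 : p = 2 := by
      rw [hcard] at he
      have h6 : 2 ∣ p := Nat.prime_two.dvd_of_dvd_pow (even_iff_two_dvd.1 he)
      exact ((Nat.prime_dvd_prime_iff_eq Nat.prime_two hp).1 h6).symm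
    rw [hg, Nat.div_one, Nat.div_one] at hex
    rw [hg, Nat.div_one] at hplus
    rcases hex with h6 | h6 | h6
    · have := Nat.le_of_dvd hp.pos h6
      omega
    · have := Nat.le_of_dvd (by omega) h6
      omega
    · have h7 := Nat.le_of_dvd (by omega) h6
      have h8 : 3 ^ n * 3 ^ n - 1 = 2 * Fintype.card F := by omega
      refine not_two_pow (k := k + 1) hQ ?_
      rw [h8, hcard, hp2, pow_succ, mul_comm]
  · have hg : Nat.gcd 2 (Fintype.card F - 1) = 2 := by
      apply Nat.gcd_eq_left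
      obtain ⟨j, hj⟩ := ho
      omega
    rw [Nat.odd_iff] at ho
    rw [hg] at hex hplus key
    rcases hex with h6 | h6 | h6
    · exfalso
      have h7 : M n = p := by
        rcases (Nat.dvd_prime hp).1 h6 with h8 | h8
        · omega
        · exact h8
      rcases Nat.lt_or_ge (k : ℕ) 2 with h8 | h8
      · have hk1 : (k : ℕ) = 1 := by have := k.pos; omega
        rw [hk1, pow_one, ← h7] at hcard
        have h9 : 3 ∣ (M n + 1) / 2 := by
          have h3 : 3 ∣ 3 ^ n * 3 ^ n := hQ.three.mul_left _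
          omega
        have h10 := (key ((Fintype.card F + 1) / 2) (Or.inr (Or.inr dvd_rfl))).three_le hQ (by rw [hcard]; exact h9)
        rw [hcard] at h10
        have h11 : 27 * 3 ^ n ≤ 3 ^ n * 3 ^ n := Nat.mul_le_mul_right _ hq
        omega
      · have h9 : p ^ 2 ≤ Fintype.card F := by
          rw [hcard]
          exact Nat.pow_le_pow_right hp.pos h8
        rw [← h7, pow_two] at h9
        have h10 : 365 * M n ≤ M n * M n := Nat.mul_le_mul_right _ hbig.2
        omega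
    · exfalso
      have := Nat.le_of_dvd (by omega) h6
      omega
    · have := Nat.le_of_dvd (by omega) h6
      omega

/-! ### `PSL₃`, even characteristic -/

theorem psl_three (hQ : Q n (3 ^ n) (M n)) {F : Type u} [Field F] [Fintype F] (h2 : (2 : F) = 0)
    (h : Hyp n (Matrix.ProjectiveSpecialLinearGroup (Fin 3) F)) : False := by
  have hch : CharP F 2 := CharTwo.of_one_ne_zero_of_two_eq_zero one_ne_zero h2
  have := Fact.mk Nat.prime_two
  have h5 := Cfsg.Agent.S2476.result (F := F) 2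
  have hF2 : 2 ≤ Fintype.card F := Fintype.one_lt_card
  have hbig := hQ.big_M
  generalize Fintype.card F = c at *
  have hdp : 0 < Nat.gcd 3 (c - 1) := Nat.gcd_pos_of_pos_left _ (by norm_num)
  have hd3 : Nat.gcd 3 (c - 1) ≤ 3 := Nat.gcd_le_left _ (by norm_num)
  have hdv3 : Nat.gcd 3 (c - 1) ∣ 3 := Nat.gcd_dvd_left _ _
  have hdvc : Nat.gcd 3 (c - 1) ∣ c - 1 := Nat.gcd_dvd_right _ _
  generalize Nat.gcd 3 (c - 1) = d at *
  have hdc : d ≤ c - 1 := Nat.le_of_dvd (by omega) hdvc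
  have hddv : d ∣ c ^ 2 + c + 1 := by
    have h6 : c ^ 2 + c + 1 = (c - 1) * (c + 2) + 3 := by
      obtain ⟨b, rfl⟩ : ∃ b, c = b + 1 := ⟨c - 1, by omega⟩
      rw [Nat.add_sub_cancel]
      ring
    rw [h6]
    exact dvd_add (hdvc.mul_right _) hdv3
  have hle : (c ^ 2 + c + 1) / d ≤ M n := by
    have h6 : (c ^ 2 + c + 1) / d ∈ Set.range (orderOf : Matrix.ProjectiveSpecialLinearGroup (Fin 3) F → ℕ) := by
      rw [h5]
      exact Or.inl dvd_rfl
    obtain ⟨x, hx⟩ := h6
    rw [← hx]; exact (h.all x).le hQ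
  have h6 : M n ∈ Set.range (orderOf : Matrix.ProjectiveSpecialLinearGroup (Fin 3) F → ℕ) := h.ex
  rw [h5] at h6
  have h7 : c ^ 2 + c + 1 < (M n + 1) * d := by
    rw [← Nat.div_lt_iff_lt_mul hdp]
    omega
  have h8 : c ^ 2 = c * c := pow_two c
  have h9 : 2 * c ≤ c * c := Nat.mul_le_mul_right c hF2
  have hlow : ∀ a : ℕ, d ≤ a → M n ∣ a / d → M n * d ≤ a := by
    intro a ha hd0
    have := Nat.le_of_dvd (Nat.div_pos ha hdp) hd0
    exact (Nat.le_div_iff_mul_le hdp).1 this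
  have hMd : (M n + 1) * d = M n * d + d := by ring
  rcases h6 with h6 | h6 | h6 | h6 | h6
  · have h10 : 5 ∣ c ^ 2 + c + 1 := by
      have h11 : 5 ∣ (c ^ 2 + c + 1) / d := hQ.five.trans h6
      exact h11.trans (Nat.div_dvd_of_dvd hddv)
    have h11 : c % 5 = 0 ∨ c % 5 = 1 ∨ c % 5 = 2 ∨ c % 5 = 3 ∨ c % 5 = 4 := by omega
    have h12 : (c ^ 2 + c + 1) % 5 = 0 := Nat.mod_eq_zero_of_dvd h10
    rcases h11 with h11 | h11 | h11 | h11 | h11 <;>
      simp [pow_two, Nat.add_mod, Nat.mul_mod, h11] at h12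
  · have := hlow (c ^ 2 - 1) (by omega) h6
    omega
  · have h10 := Nat.le_of_dvd (by omega) h6
    have h11 : (M n + 1) * d ≤ c * 3 := Nat.mul_le_mul (by omega) hd3
    omega
  · have := hlow (2 * (c - 1)) (by omega) h6
    omega
  · have := Nat.le_of_dvd (by norm_num) h6.2
    omega

/-! ### `PSL₄`, even characteristic -/

/-- the companion matrix of `x⁴ + x + 1` -/
def C15 : Matrix.SpecialLinearGroup (Fin 4) (ZMod 2) :=
  ⟨!![0, 1, 0, 0; 0, 0, 1, 0; 0, 0, 0, 1; 1, 1, 0, 0], by decide +kernel⟩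

theorem C15_pow : C15 ^ 15 = 1 ∧ (↑(C15 ^ 3) : Matrix (Fin 4) (Fin 4) (ZMod 2)) 0 3 = 1 ∧
    (↑(C15 ^ 5) : Matrix (Fin 4) (Fin 4) (ZMod 2)) 0 1 = 1 := by
  decide +kernel

theorem psl_four (hQ : Q n (3 ^ n) (M n)) {F : Type u} [Field F] [Fintype F] (h2 : (2 : F) = 0)
    (h : Hyp n (Matrix.ProjectiveSpecialLinearGroup (Fin 4) F)) : False := by
  have hch : CharP F 2 := CharTwo.of_one_ne_zero_of_two_eq_zero one_ne_zero h2
  set f := ZMod.castHom (dvd_refl 2) F with hf
  set g : Matrix.SpecialLinearGroup (Fin 4) F := Matrix.SpecialLinearGroup.map f C15 with hg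
  set z : Matrix.ProjectiveSpecialLinearGroup (Fin 4) F := QuotientGroup.mk g with hz
  have h15 : z ^ 15 = 1 := by
    rw [hz, ← QuotientGroup.mk_pow, hg, ← map_pow, C15_pow.1, map_one]; rfl
  have hne : ∀ k : ℕ, ∀ i j : Fin 4, i ≠ j →
      (↑(C15 ^ k) : Matrix (Fin 4) (Fin 4) (ZMod 2)) i j = 1 → z ^ k ≠ 1 := by
    intro k i j hij hk h0
    rw [hz, ← QuotientGroup.mk_pow, QuotientGroup.eq_one_iff, hg, ← map_pow] at h0
    refine H372.not_mem_center_of_entry (i := i) (j := j) hij ?_ h0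
    rw [Matrix.SpecialLinearGroup.map_apply_coe, RingHom.mapMatrix_apply, Matrix.map_apply, hk, map_one]
    exact one_ne_zero
  have h3 := hne 3 0 3 (by decide) C15_pow.2.1
  have h5 := hne 5 0 1 (by decide) C15_pow.2.2
  have h1 : orderOf z ∣ 15 := orderOf_dvd_of_pow_eq_one h15
  have h1' : orderOf z ∈ Nat.divisors 15 := Nat.mem_divisors.2 ⟨h1, by norm_num⟩
  have h6 : Nat.divisors 15 = {1, 3, 5, 15} := by decide
  rw [h6] at h1'
  simp only [Finset.mem_insert, Finset.mem_singleton] at h1'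
  have h7 : orderOf z = 15 := by
    rcases h1' with h7 | h7 | h7 | h7
    · exact absurd (orderOf_dvd_iff_pow_eq_one.1 (by rw [h7]; norm_num)) h3
    · exact absurd (orderOf_dvd_iff_pow_eq_one.1 (dvd_of_eq h7)) h3
    · exact absurd (orderOf_dvd_iff_pow_eq_one.1 (dvd_of_eq h7)) h5
    · exact h7
  apply not_fifteen hQ
  rw [← h7]
  exact h.all z

/-! ### `PSU₃`, even characteristic -/

/-- `q` is a power of two -/
theorem exists_two_pow {F : Type u} [Field F] [Fintype F] (h2 : (2 : F) = 0) {q : ℕ}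
    (hF : Fintype.card F = q ^ 2) : ∃ k : ℕ, 1 ≤ k ∧ q = 2 ^ k := by
  have hch : CharP F 2 := CharTwo.of_one_ne_zero_of_two_eq_zero one_ne_zero h2
  obtain ⟨j, -, hj⟩ := FiniteField.card F 2
  have h1 : q ∣ 2 ^ (j : ℕ) := by rw [← hj, hF]; exact dvd_pow_self q (by norm_num)
  obtain ⟨k, -, hk⟩ := (Nat.dvd_prime_pow Nat.prime_two).1 h1
  refine ⟨k, ?_, hk⟩
  by_contra hlt
  have : k = 0 := by omega
  rw [hk, this] at hF
  have := Fintype.one_lt_card (α := F)
  omega

theorem psu_three (hQ : Q n (3 ^ n) (M n)) {F : Type u} [Field F] [Fintype F] (h2 : (2 : F) = 0) {q : ℕ}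
    (hF : Fintype.card F = q ^ 2) (h : Hyp n (PSU 3 F q)) : False := by
  obtain ⟨k, hk1, hk⟩ := exists_two_pow h2 hF
  have hcard := Cfsg.Agent.S0280.result hF 3 (by norm_num)
  have h5 : 5 ∣ Nat.card (PSU 3 F q) := by
    obtain ⟨x, hx⟩ := h.ex
    exact (hQ.five.trans (hx ▸ dvd_rfl)).trans (orderOf_dvd_natCard x)
  rw [Finset.prod_range_succ, Finset.prod_range_succ, Finset.prod_range_succ, Finset.prod_range_zero] at hcard
  have e1 : Even 0 := by decide
  have e2 : ¬ Even 1 := by decide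
  have e3 : Even 2 := by decide
  rw [if_pos e1, if_neg e2, if_pos e3] at hcard
  have h6 : 5 ∣ q ^ (3 * (3 - 1) / 2) * (1 * (q ^ (0 + 1) + 1) * (q ^ (1 + 1) - 1) * (q ^ (2 + 1) + 1)) := by
    rw [← hcard]
    exact (h5.mul_left _).mul_left _
  have p5 : Nat.Prime 5 := by norm_num
  have hq5 : q % 5 = 1 ∨ q % 5 = 2 ∨ q % 5 = 3 ∨ q % 5 = 4 := by
    have : ¬ 5 ∣ q := by
      rw [hk]
      intro h
      have := (Nat.prime_dvd_prime_iff_eq p5 Nat.prime_two).1 (p5.dvd_of_dvd_pow h)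
      omega
    omega
  have hq1 : 1 ≤ q ^ 2 := Nat.one_le_pow _ _ (by rw [hk]; positivity)
  have h7 : q % 5 = 1 ∨ q % 5 = 4 := by
    by_contra hcon
    push Not at hcon
    have h8 : q % 5 = 2 ∨ q % 5 = 3 := by omega
    rcases p5.dvd_mul.1 h6 with h9 | h9
    · have h10 := p5.dvd_of_dvd_pow h9
      omega
    · rcases p5.dvd_mul.1 h9 with h9 | h9
      · rcases p5.dvd_mul.1 h9 with h9 | h9
        · rcases p5.dvd_mul.1 h9 with h9 | h9
          · omega
          · rw [zero_add, pow_one] at h9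
            omega
        · have h9' : 5 ∣ q ^ 2 - 1 := h9
          have h10 : (q ^ 2) % 5 = 1 := by omega
          rcases h8 with h8 | h8 <;> simp [Nat.pow_mod, h8] at h10
      · have h10 : (q ^ (2 + 1)) % 5 = 4 := by omega
        rcases h8 with h8 | h8 <;> simp [Nat.pow_mod, h8] at h10
  have hev : Even k := by
    by_contra ho
    rw [Nat.not_even_iff_odd] at ho
    obtain ⟨j, rfl⟩ := ho
    rw [hk, pow_succ, pow_mul] at h7
    have h8 : (2 ^ 2) ^ j % 5 = 1 ∨ (2 ^ 2) ^ j % 5 = 4 := by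
      clear hk h7
      induction j with
      | zero => left; rfl
      | succ j ih => rw [pow_succ]; omega
    omega
  obtain ⟨j, rfl⟩ := hev
  have h3 : q % 3 = 1 := by
    rw [hk, ← two_mul, pow_mul, Nat.pow_mod]
    norm_num
  have hg : Nat.gcd 3 (q + 1) = 1 := by
    have : Nat.Coprime 3 (q + 1) := (Nat.Prime.coprime_iff_not_dvd Nat.prime_three).2 (by omega)
    exact this
  have h15 : 15 ∣ (q ^ 2 - 1) / Nat.gcd 3 (q + 1) := by
    rw [hg, Nat.div_one]
    have h9 : (q ^ 2) % 3 = 1 := by rw [Nat.pow_mod, h3]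
    have h10 : (q ^ 2) % 5 = 1 := by
      rcases h7 with h7 | h7 <;> rw [Nat.pow_mod, h7]
    omega
  obtain ⟨z, hz⟩ := Cfsg.Agent.H127.PSUThreeEx.ex_three hF 15 h15
  apply not_fifteen hQ
  rw [← hz]
  exact h.all z

end Cfsg.Agent.H374.R.Fam
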